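import Groth.Agent.PglPts.Descent
import Groth.Agent.S0201

/-! Automorphisms of the Severi–Brauer variety. -/

set_option autoImplicit false
set_option maxSynthPendingDepth 3

universe u

noncomputable section

open CategoryTheory AlgebraicGeometry
open scoped TensorProduct

namespace Groth.Agent.PglPts

open GrassClosed

variable {k : Type u} [Field k] {A : Type u} [Ring A] [Algebra k A] {c : ℕ}
  {X : Scheme.{u}} {f : X ⟶ Spec (CommRingCat.of k)}

/-- Points as morphisms over the base. -/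
def ptsEquiv (R : Type u) [CommRing R] [Algebra k R] : (SpA (CommAlgCat.of k R) ⟶ Over.mk f) ≃ BrSev.Pts f R where
  toFun g := ⟨g.left, Over.w g⟩
  invFun g := Over.homMk g.1 g.2
  left_inv g := rfl
  right_inv g := rfl

variable (b : BrSev.SBStr k A c f)

theorem exists_endo
    (Φ : ∀ (R : Type u) [CommRing R] [Algebra k R], BrSev.SBSet k A c R → BrSev.SBSet k A c R) (hΦ : IsNat Φ) :
    ∃ F : Over.mk f ⟶ Over.mk f, ∀ (R : Type u) [CommRing R] [Algebra k R] (g : SpA (CommAlgCat.of k R) ⟶ Over.mk f),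
      b.bij R (ptsEquiv R (g ≫ F)) = Φ R (b.bij R (ptsEquiv R g)) := by
  obtain ⟨F, hF⟩ := exists_hom_of_points (R := k) (Y := Over.mk f) (X := Over.mk f)
    (fun B g => (ptsEquiv (B : Type u)).symm ((b.bij (B : Type u)).symm
      (Φ (B : Type u) (b.bij (B : Type u) (ptsEquiv (B : Type u) g))))) (fun B C φ g g' hg => by
    have hmap : ∀ p : BrSev.Pts f (B : Type u),
        b.bij (C : Type u) (BrSev.Pts.map f φ.hom p) = mapSB φ.hom (b.bij (B : Type u) p) := fun p =>
      Subtype.ext (Module.Grassmannian.ext (b.natural (B : Type u) (C : Type u) φ.hom p))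
    have h1 : ptsEquiv (C : Type u) g' = BrSev.Pts.map f φ.hom (ptsEquiv (B : Type u) g) := Subtype.ext hg
    set p := (b.bij (B : Type u)).symm (Φ (B : Type u) (b.bij (B : Type u) (ptsEquiv (B : Type u) g))) with hp
    show ((b.bij (C : Type u)).symm (Φ (C : Type u) (b.bij (C : Type u) (ptsEquiv (C : Type u) g')))).1 =
      (BrSev.Pts.map f φ.hom p).1
    refine congrArg Subtype.val ((Equiv.symm_apply_eq _).2 ?_)
    exact (congrArg (Φ (C : Type u)) ((congrArg (b.bij (C : Type u)) h1).trans (hmap _))).trans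
      ((hΦ _ _ φ.hom _).trans ((congrArg (mapSB φ.hom) ((b.bij (B : Type u)).apply_symm_apply _).symm).trans (hmap p).symm)))
  refine ⟨F, fun R _ _ g => ?_⟩
  have := hF (CommAlgCat.of k R) g
  rw [this]
  exact (congrArg (b.bij R) ((ptsEquiv R).apply_symm_apply _)).trans ((b.bij R).apply_symm_apply _)

theorem hom_ext' {F G : Over.mk f ⟶ Over.mk f}
    (h : ∀ (R : Type u) [CommRing R] [Algebra k R] (g : SpA (CommAlgCat.of k R) ⟶ Over.mk f),
      b.bij R (ptsEquiv R (g ≫ F)) = b.bij R (ptsEquiv R (g ≫ G))) : F = G :=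
  over_hom_ext _ _ fun B g => (ptsEquiv (B : Type u)).injective ((b.bij (B : Type u)).injective (h (B : Type u) g))

theorem exists_aut_of_unit (a : Aˣ) :
    ∃ e : Aut (Over.mk f), ∀ (R : Type u) [CommRing R] [Algebra k R] (g : SpA (CommAlgCat.of k R) ⟶ Over.mk f),
      b.bij R (ptsEquiv R (g ≫ e.hom)) = rmul (aR R a⁻¹) (b.bij R (ptsEquiv R g)) := by
  obtain ⟨F, hF⟩ := exists_endo b _ (isNat_aR (c := c) a⁻¹)
  obtain ⟨G, hG⟩ := exists_endo b _ (isNat_aR (c := c) a)
  refine ⟨⟨F, G, hom_ext' b fun R _ _ g => ?_, hom_ext' b fun R _ _ g => ?_⟩, hF⟩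
  · rw [← Category.assoc, hG, hF, rmul_mul, ← map_mul, inv_mul_cancel, map_one, rmul_one, Category.comp_id]
  · rw [← Category.assoc, hF, hG, rmul_mul, ← map_mul, mul_inv_cancel, map_one, rmul_one, Category.comp_id]

end Groth.Agent.PglPts

namespace Groth.Agent.PglPts

theorem main (k : Type u) [Field k] (A : Type u) [Ring A] [Algebra k A] [Algebra.IsCentral k A] [IsSimpleRing A]
    (n : ℕ) (hn : 0 < n) (hA : Module.finrank k A = n * n)
    {X : Scheme.{u}} (f : X ⟶ Spec (CommRingCat.of k)) (hX : BrSev.IsSBOf k A (n * n - n) f) :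
    ∃ ξ : Aˣ →* Aut (Over.mk f), Function.Surjective ξ ∧
      ξ.ker = (Units.map (algebraMap k A : k →* A)).range := by
  obtain ⟨b⟩ := hX
  haveI : Module.Finite k A := Module.finite_of_finrank_pos (by rw [hA]; exact Nat.mul_pos hn hn)
  obtain ⟨K, _, _, hfin, hgal, r, hr, ⟨e₀⟩⟩ := Groth.Agent.S0201.result k A
  haveI := hfin; haveI := hgal
  obtain rfl : r = n := by
    have h := e₀.toLinearEquiv.finrank_eq
    rw [Module.finrank_baseChange, hA, Module.finrank_matrix, Module.finrank_self, Fintype.card_fin, mul_one] at h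
    exact (Nat.mul_self_inj.1 h).symm
  choose ξ hξ using exists_aut_of_unit b
  have hmul : ∀ a a' : Aˣ, ξ (a * a') = ξ a * ξ a' := fun a a' => Aut.ext (hom_ext' b fun R _ _ g => by
    rw [hξ, show (ξ a * ξ a').hom = (ξ a').hom ≫ (ξ a).hom from rfl, ← Category.assoc, hξ, hξ, rmul_mul,
      ← map_mul, ← mul_inv_rev])
  refine ⟨MonoidHom.mk' ξ hmul, fun e => ?_, ?_⟩
  · let Φ : ∀ (F : Over.mk f ⟶ Over.mk f) (R : Type u) [CommRing R] [Algebra k R],
        BrSev.SBSet k A (r * r - r) R → BrSev.SBSet k A (r * r - r) R := fun F R _ _ N =>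
      b.bij R (ptsEquiv R ((ptsEquiv R).symm ((b.bij R).symm N) ≫ F))
    have hnat : ∀ F, IsNat (Φ F) := fun F R S _ _ _ _ φ N => by
      have hmap : ∀ p : BrSev.Pts f R, b.bij S (BrSev.Pts.map f φ p) = mapSB φ (b.bij R p) := fun p =>
        Subtype.ext (Module.Grassmannian.ext (b.natural R S φ p))
      have h1 : (b.bij S).symm (mapSB φ N) = BrSev.Pts.map f φ ((b.bij R).symm N) :=
        (Equiv.symm_apply_eq _).2 (by rw [hmap, Equiv.apply_symm_apply])
      show b.bij S _ = mapSB φ (b.bij R _)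
      rw [← hmap, h1]
      exact congrArg (b.bij S) (Subtype.ext (Category.assoc _ _ _))
    have hΦg : ∀ (F : Over.mk f ⟶ Over.mk f) (R : Type u) [CommRing R] [Algebra k R] (g),
        Φ F R (b.bij R (ptsEquiv R g)) = b.bij R (ptsEquiv R (g ≫ F)) := fun F R _ _ g => by
      simp only [Φ, Equiv.symm_apply_apply]
    obtain ⟨a, ha⟩ := exists_unit hn (Φ e.hom) (Φ e.inv) (hnat _) (hnat _) (fun R _ _ N => by
      obtain ⟨g, rfl⟩ := ((ptsEquiv (f := f) R).trans (b.bij R)).surjective N
      show Φ e.inv R (Φ e.hom R (b.bij R (ptsEquiv R g))) = b.bij R (ptsEquiv R g)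
      exact (congrArg (Φ e.inv R) (hΦg e.hom R g)).trans ((hΦg e.inv R _).trans
        (congrArg (fun z => b.bij R (ptsEquiv R z))
          ((Category.assoc g _ _).trans ((congrArg (g ≫ ·) e.hom_inv_id).trans (Category.comp_id g)))))) hA e₀
    refine ⟨a⁻¹, Aut.ext (hom_ext' b fun R _ _ g => ?_)⟩
    rw [MonoidHom.mk'_apply, hξ, inv_inv, ← ha, hΦg]
  · ext a
    rw [MonoidHom.mem_ker, MonoidHom.mk'_apply, MonoidHom.mem_range]
    constructor
    · intro h1
      obtain ⟨c, hc⟩ := exists_smul_of_rmul_eq e₀ hA hn 1 (aR K a⁻¹) fun N => by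
        obtain ⟨g, rfl⟩ := ((ptsEquiv (f := f) K).trans (b.bij K)).surjective N
        rw [rmul_one, Equiv.trans_apply, ← hξ, h1]
        exact congrArg (fun z => b.bij K (ptsEquiv K z)) (Category.comp_id g).symm
      haveI : Nonempty (Fin r) := ⟨⟨0, hn⟩⟩
      haveI : Nontrivial (K ⊗[k] A) := e₀.toEquiv.nontrivial
      have hfix : ∀ σ : K ≃ₐ[k] K, σ c = c := fun σ => by
        have h2 := congrArg Units.val (incU_aR (σ : K →ₐ[k] K) a⁻¹)
        change incA (σ : K →ₐ[k] K) ((aR K a⁻¹ : (K ⊗[k] A)ˣ) : K ⊗[k] A) = _ at h2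
        rw [hc, ← inc_eq, GrassRep.inc_smul, inc_eq, Units.val_one, map_one] at h2
        exact smul_left_injective K (one_ne_zero (α := K ⊗[k] A)) h2
      obtain ⟨x, hx⟩ := (IsGalois.mem_range_algebraMap_iff_fixed c).2 hfix
      have hx' : ((a⁻¹ : Aˣ) : A) = algebraMap k A x :=
        Algebra.TensorProduct.includeRight_injective (algebraMap k K).injective (by
          rw [AlgHom.commutes]
          refine hc.trans ?_
          rw [← hx, Units.val_one, algebraMap_smul, ← Algebra.algebraMap_eq_smul_one])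
      haveI : Nontrivial A := inferInstance
      have hx0 : x ≠ 0 := fun h0 => (a⁻¹).isUnit.ne_zero (by rw [hx', h0, map_zero])
      refine ⟨(Units.mk0 x hx0)⁻¹, ?_⟩
      rw [map_inv, inv_eq_iff_eq_inv]
      exact Units.ext hx'.symm
    · rintro ⟨x, rfl⟩
      refine Aut.ext (hom_ext' b fun R _ _ g => ?_)
      rw [hξ]
      refine Eq.trans ?_ (congrArg (fun z => b.bij R (ptsEquiv R z)) (Category.comp_id g).symm)
      set N := b.bij R (ptsEquiv R g)
      refine Subtype.ext (LinkedGrass.eq_of_le fun y hy => ?_)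
      rw [mem_rmul] at hy
      have h1 : ((aR R (Units.map (algebraMap k A : k →* A) x)⁻¹ : (R ⊗[k] A)ˣ) : R ⊗[k] A) =
          algebraMap k (R ⊗[k] A) (↑x⁻¹ : k) := by
        rw [← map_inv]
        exact (Algebra.TensorProduct.includeRight : A →ₐ[k] R ⊗[k] A).commutes _
      set u : (R ⊗[k] A)ˣ := aR R (Units.map (algebraMap k A : k →* A) x)⁻¹
      have h2 : y = algebraMap k R (↑x⁻¹ : k) • (y * ↑u⁻¹) := by
        calc y = y * ↑u⁻¹ * (u : R ⊗[k] A) := by rw [Units.inv_mul_cancel_right]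
          _ = _ := by rw [h1, ← Algebra.commutes, ← Algebra.smul_def]; exact (algebraMap_smul R _ _).symm
      rw [h2]
      exact N.1.toSubmodule.smul_mem _ hy

end Groth.Agent.PglPts
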