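import Groth.Agent.BrSevSplit.Main

/-! Operations on the left ideal sets: base change and right multiplication by units. -/

set_option autoImplicit false
set_option maxSynthPendingDepth 3

universe u

noncomputable section

open scoped TensorProduct

namespace Groth.Agent.PglPts

open GrassRep

variable {k : Type u} [Field k] {A : Type u} [Ring A] [Algebra k A] {c : ℕ}
  {R S T : Type u} [CommRing R] [Algebra k R] [CommRing S] [Algebra k S] [CommRing T] [Algebra k T]

/-- Change of coefficients as an algebra map. -/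
abbrev incA (φ : R →ₐ[k] S) : R ⊗[k] A →ₐ[k] S ⊗[k] A :=
  Algebra.TensorProduct.map φ (AlgHom.id k A)

theorem inc_eq (φ : R →ₐ[k] S) (x : R ⊗[k] A) : inc φ x = incA φ x := by
  induction x using TensorProduct.induction_on with
  | zero => simp
  | tmul r a => simp [inc_tmul]
  | add x y hx hy => simp only [map_add, hx, hy]

theorem incA_comp (φ : R →ₐ[k] S) (ψ : S →ₐ[k] T) (x : R ⊗[k] A) :
    incA ψ (incA φ x) = incA (ψ.comp φ) x := by
  induction x using TensorProduct.induction_on with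
  | zero => simp
  | tmul r a => simp
  | add x y hx hy => simp only [map_add, hx, hy]

theorem leftIdeal_span (φ : R →ₐ[k] S) (N : BrSev.SBSet k A c R) (a x : S ⊗[k] A)
    (hx : x ∈ Submodule.span S (inc φ '' (N.1.toSubmodule : Set (R ⊗[k] A)))) :
    a * x ∈ Submodule.span S (inc φ '' (N.1.toSubmodule : Set (R ⊗[k] A))) := by
  induction hx using Submodule.span_induction with
  | mem z hz =>
    obtain ⟨y, hy, rfl⟩ := hz
    induction a using TensorProduct.induction_on with
    | zero => rw [zero_mul]; exact zero_mem _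
    | tmul s b =>
      have e : s ⊗ₜ[k] b = s • incA φ ((1 : R) ⊗ₜ[k] b) := by
        simp [TensorProduct.smul_tmul']
      rw [e, smul_mul_assoc, inc_eq, ← map_mul, ← inc_eq]
      exact Submodule.smul_mem _ _ (Submodule.subset_span ⟨_, N.2 _ _ hy, rfl⟩)
    | add a b ha hb => rw [add_mul]; exact add_mem ha hb
  | zero => rw [mul_zero]; exact zero_mem _
  | add z w _ _ h1 h2 => rw [mul_add]; exact add_mem h1 h2
  | smul r z _ h1 => rw [mul_smul_comm]; exact Submodule.smul_mem _ _ h1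

/-- Base change of a point. -/
def mapSB (φ : R →ₐ[k] S) (N : BrSev.SBSet k A c R) : BrSev.SBSet k A c S :=
  ⟨Module.Grassmannian.map φ N.1, fun a x hx => by
    rw [map_eq_span] at hx ⊢
    exact leftIdeal_span φ N a x hx⟩

theorem mapSB_comp (φ : R →ₐ[k] S) (ψ : S →ₐ[k] T) (N : BrSev.SBSet k A c R) :
    mapSB (ψ.comp φ) N = mapSB ψ (mapSB φ N) :=
  Subtype.ext (Module.Grassmannian.map_comp c φ ψ N.1)

theorem mapSB_id (N : BrSev.SBSet k A c R) : mapSB (AlgHom.id k R) N = N :=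
  Subtype.ext (Module.Grassmannian.map_id c (CommAlgCat.of k R) N.1)

theorem mem_mapSB (φ : R →ₐ[k] S) (N : BrSev.SBSet k A c R) {x : R ⊗[k] A} (hx : x ∈ N.1.toSubmodule) :
    incA φ x ∈ (mapSB φ N).1.toSubmodule :=
  inc_eq φ x ▸ inc_mem_map φ N.1 hx

theorem mapSB_eq_of_le {φ : R →ₐ[k] S} {N : BrSev.SBSet k A c R} {M : BrSev.SBSet k A c S}
    (h : ∀ x ∈ N.1.toSubmodule, incA φ x ∈ M.1.toSubmodule) : mapSB φ N = M := by
  refine Subtype.ext (LinkedGrass.eq_of_le ?_)
  show (Module.Grassmannian.map φ N.1).toSubmodule ≤ _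
  rw [map_eq_span, Submodule.span_le]
  rintro _ ⟨x, hx, rfl⟩
  exact inc_eq φ x ▸ h x hx

theorem mem_of_jointly {ι : Type*} {S' : ι → Type u} [∀ i, CommRing (S' i)] [∀ i, Algebra k (S' i)]
    (φ : ∀ i, R →ₐ[k] S' i) (hφ : ∀ a : R, (∀ i, φ i a = 0) → a = 0) (N : BrSev.SBSet k A c R)
    (x : R ⊗[k] A) (h : ∀ i, incA (φ i) x ∈ (mapSB (φ i) N).1.toSubmodule) : x ∈ N.1.toSubmodule := by
  rw [← Submodule.Quotient.mk_eq_zero, ← Submodule.mkQ_apply, ← Module.forall_dual_apply_eq_zero_iff R]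
  intro d
  refine hφ _ fun i => (inc_mem_map_iff (φ i) N.1 x).1 ?_ d
  exact (inc_eq (φ i) x).symm ▸ h i

theorem mem_iff_of_injective {φ : R →ₐ[k] S} (hφ : Function.Injective φ) (N : BrSev.SBSet k A c R)
    (x : R ⊗[k] A) : incA φ x ∈ (mapSB φ N).1.toSubmodule ↔ x ∈ N.1.toSubmodule :=
  ⟨fun h => mem_of_jointly (fun _ : Unit => φ) (fun a ha => hφ ((ha ()).trans (map_zero φ).symm)) N x fun _ => h,
    mem_mapSB φ N⟩

theorem eq_of_jointly {ι : Type*} {S' : ι → Type u} [∀ i, CommRing (S' i)] [∀ i, Algebra k (S' i)]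
    (φ : ∀ i, R →ₐ[k] S' i) (hφ : ∀ a : R, (∀ i, φ i a = 0) → a = 0) {N N' : BrSev.SBSet k A c R}
    (h : ∀ i, mapSB (φ i) N = mapSB (φ i) N') : N = N' :=
  Subtype.ext (LinkedGrass.eq_of_le fun x hx => mem_of_jointly φ hφ N' x fun i => h i ▸ mem_mapSB (φ i) N hx)

/-- Right multiplication by a unit. -/
def rmul (u : (R ⊗[k] A)ˣ) (N : BrSev.SBSet k A c R) : BrSev.SBSet k A c R :=
  let L : (R ⊗[k] A) ≃ₗ[R] (R ⊗[k] A) :=
    { toFun := fun x => x * ↑u⁻¹
      map_add' := fun x y => add_mul x y _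
      map_smul' := fun r x => smul_mul_assoc r x _
      invFun := fun x => x * ↑u
      left_inv := fun x => u.inv_mul_cancel_right x
      right_inv := fun x => u.mul_inv_cancel_right x }
  ⟨{ toSubmodule := N.1.toSubmodule.comap L.toLinearMap
     finite_quotient := Module.Finite.equiv (BrSevSplit.quotComapEquiv L N.1.toSubmodule).symm
     projective_quotient := Module.Projective.of_equiv (BrSevSplit.quotComapEquiv L N.1.toSubmodule).symm
     rankAtStalk_eq := fun x => by
       rw [Module.rankAtStalk_eq_of_equiv (BrSevSplit.quotComapEquiv L N.1.toSubmodule)]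
       exact N.1.rankAtStalk_eq x },
    fun a x hx => by
      show a * x * ↑u⁻¹ ∈ N.1.toSubmodule
      rw [mul_assoc]
      exact N.2 _ _ hx⟩

theorem mem_rmul {u : (R ⊗[k] A)ˣ} {N : BrSev.SBSet k A c R} {x : R ⊗[k] A} :
    x ∈ (rmul u N).1.toSubmodule ↔ x * ↑u⁻¹ ∈ N.1.toSubmodule := Iff.rfl

theorem rmul_one (N : BrSev.SBSet k A c R) : rmul 1 N = N :=
  Subtype.ext (Module.Grassmannian.ext (Submodule.ext fun x => by rw [mem_rmul, inv_one, Units.val_one, mul_one]))

theorem rmul_mul (u v : (R ⊗[k] A)ˣ) (N : BrSev.SBSet k A c R) : rmul v (rmul u N) = rmul (u * v) N :=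
  Subtype.ext (Module.Grassmannian.ext (Submodule.ext fun x => by
    rw [mem_rmul, mem_rmul, mem_rmul, mul_inv_rev, Units.val_mul, mul_assoc]))

/-- Change of coefficients on units. -/
abbrev incU (φ : R →ₐ[k] S) : (R ⊗[k] A)ˣ →* (S ⊗[k] A)ˣ :=
  Units.map (incA (A := A) φ).toRingHom.toMonoidHom

theorem mapSB_rmul (φ : R →ₐ[k] S) (u : (R ⊗[k] A)ˣ) (N : BrSev.SBSet k A c R) :
    mapSB φ (rmul u N) = rmul (incU φ u) (mapSB φ N) :=
  mapSB_eq_of_le fun x hx => by
    rw [mem_rmul, ← map_inv, Units.coe_map]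
    exact (map_mul (incA φ) x ↑u⁻¹) ▸ mem_mapSB φ N hx

end Groth.Agent.PglPts
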