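import Groth.Agent.PglPts.Linear

/-! Natural automorphisms of the left ideal functor come from units of the algebra. -/

set_option autoImplicit false
set_option maxSynthPendingDepth 3

universe u

noncomputable section

open scoped TensorProduct Matrix

namespace Groth.Agent.PglPts

variable {k : Type u} [Field k] {A : Type u} [Ring A] [Algebra k A]

/-- A unit of `A` over a commutative algebra. -/
abbrev aR (R : Type u) [CommRing R] [Algebra k R] (a : Aˣ) : (R ⊗[k] A)ˣ :=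
  Units.map (Algebra.TensorProduct.includeRight : A →ₐ[k] R ⊗[k] A).toRingHom.toMonoidHom a

theorem incU_aR {R S : Type u} [CommRing R] [Algebra k R] [CommRing S] [Algebra k S] (φ : R →ₐ[k] S) (a : Aˣ) :
    incU φ (aR R a) = aR S a := Units.ext (by simp [incU, aR])

theorem isNat_aR {c : ℕ} (a : Aˣ) :
    IsNat fun R _ _ (N : BrSev.SBSet k A c R) => rmul (aR R a) N := fun R S _ _ _ _ φ N => by
  show rmul (aR S a) (mapSB φ N) = mapSB φ (rmul (aR R a) N)
  rw [mapSB_rmul, incU_aR]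

variable [Module.Finite k A] {K : Type u} [Field K] [Algebra k K] {n : ℕ}
  (e₀ : K ⊗[k] A ≃ₐ[K] Matrix (Fin n) (Fin n) K) (hA : Module.finrank k A = n * n)

/-- A unit of `K ⊗ A` over a `K`-algebra. -/
abbrev bR (R : Type u) [CommRing R] [Algebra k R] [Algebra K R] [IsScalarTower k K R] (β : (K ⊗[k] A)ˣ) :
    (R ⊗[k] A)ˣ := incU ((Algebra.ofId K R).restrictScalars k) β

theorem exists_beta (hn : 0 < n)
    (Φ Ψ : ∀ (R : Type u) [CommRing R] [Algebra k R], BrSev.SBSet k A (n * n - n) R → BrSev.SBSet k A (n * n - n) R)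
    (hΦ : IsNat Φ) (hΨ : IsNat Ψ) (h : ∀ (R : Type u) [CommRing R] [Algebra k R] N, Ψ R (Φ R N) = N)
    (hA : Module.finrank k A = n * n) (e₀ : K ⊗[k] A ≃ₐ[K] Matrix (Fin n) (Fin n) K) :
    ∃ β : (K ⊗[k] A)ˣ, ∀ (R : Type u) [CommRing R] [Algebra k R] [Algebra K R] [IsScalarTower k K R]
      (N : BrSev.SBSet k A (n * n - n) R), Φ R N = rmul (bR R β) N := by
  obtain ⟨g, hg⟩ := exists_linear e₀ hA hn Φ Ψ hΦ hΨ h
  refine ⟨Units.map e₀.symm.toAlgHom.toRingHom.toMonoidHom g, fun R _ _ _ _ N => ?_⟩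
  refine eq_of_jointly (fun m : MaximalSpectrum R => IsScalarTower.toAlgHom k R (Localization.AtPrime m.asIdeal))
    (fun a ha => ?_) fun m => ?_
  · by_contra hne
    have hann : (Ideal.span {a}).annihilator ≠ ⊤ := fun ht => hne (by
      have h1 : (1 : R) ∈ (Ideal.span {a}).annihilator := ht ▸ Submodule.mem_top
      simpa using Submodule.mem_annihilator.1 h1 a (Ideal.mem_span_singleton_self a))
    obtain ⟨m, hm, hle⟩ := Ideal.exists_le_maximal _ hann
    obtain ⟨⟨s, hs⟩, hsa⟩ := (IsLocalization.map_eq_zero_iff m.primeCompl (Localization.AtPrime m) a).1 (ha ⟨m, hm⟩)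
    exact hs (hle (Submodule.mem_annihilator.2 fun x hx => by
      obtain ⟨t, rfl⟩ := Ideal.mem_span_singleton'.1 hx
      rw [smul_eq_mul, mul_left_comm, hsa, mul_zero]))
  · let S := Localization.AtPrime m.asIdeal
    haveI : IsScalarTower k K S := IsScalarTower.of_algebraMap_eq fun r => by
      rw [IsScalarTower.algebraMap_apply k R S, IsScalarTower.algebraMap_apply k K R,
        ← IsScalarTower.algebraMap_apply K R S]
    obtain ⟨p, hp, hN⟩ := exists_ptLine e₀ hA hn (mapSB (IsScalarTower.toAlgHom k R S) N)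
    obtain ⟨i, hi⟩ := exists_isUnit hp
    obtain ⟨hq, hΦp⟩ := hg S p hp i hi
    rw [← hΦ R S, mapSB_rmul, hN, hΦp]
    have hb : incU (IsScalarTower.toAlgHom k R S) (bR R (Units.map e₀.symm.toAlgHom.toRingHom.toMonoidHom g)) =
        bR S (Units.map e₀.symm.toAlgHom.toRingHom.toMonoidHom g) := Units.ext (by
      show incA _ (incA _ _) = incA _ _
      rw [incA_comp]
      congr 2)
    rw [hb, rmul_ptLine e₀ hA _ hp]
    refine ptLine_congr e₀ hA ?_ _ _
    congr 1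
    refine Eq.symm ((BrSevSplit.rho_base e₀ S _).trans ?_)
    show (e₀ (e₀.symm (g : Matrix (Fin n) (Fin n) K))).map _ = _
    rw [AlgEquiv.apply_symm_apply]

theorem scalar_of_fix_lines {L : Type u} [Field L] {M : Matrix (Fin n) (Fin n) L} (hn : 0 < n)
    (h : ∀ p : Fin n → L, p ≠ 0 → ∃ a : L, p ᵥ* M = a • p) : ∃ c : L, M = c • (1 : Matrix (Fin n) (Fin n) L) := by
  classical
  have hs : ∀ i, ∃ a : L, M i = a • (Pi.single i 1 : Fin n → L) := fun i => by
    obtain ⟨a, ha⟩ := h (Pi.single i 1) (fun h0 => one_ne_zero (α := L) (by simpa using congrFun h0 i))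
    exact ⟨a, by rw [← ha, Matrix.single_one_vecMul]; rfl⟩
  choose a ha using hs
  let i₀ : Fin n := ⟨0, hn⟩
  refine ⟨a i₀, Matrix.ext fun i j => ?_⟩
  have hii : a i = a i₀ := by
    by_cases hi : i = i₀
    · rw [hi]
    obtain ⟨b, hb⟩ := h (Pi.single i 1 + Pi.single i₀ 1) (fun h0 => one_ne_zero (α := L) (by
      simpa [hi, Ne.symm hi] using congrFun h0 i))
    rw [Matrix.add_vecMul, Matrix.single_one_vecMul, Matrix.single_one_vecMul] at hb
    have h1 := congrFun hb i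
    have h2 := congrFun hb i₀
    simp [Matrix.row, ha, hi, Ne.symm hi] at h1 h2
    rw [h1, h2]
  rw [ha, ← hii]
  by_cases hij : i = j
  · subst hij; simp
  · simp [hij, Ne.symm hij]

include e₀ hA in
theorem exists_smul_of_rmul_eq (hn : 0 < n) (u v : (K ⊗[k] A)ˣ)
    (h : ∀ N : BrSev.SBSet k A (n * n - n) K, rmul u N = rmul v N) :
    ∃ c : K, (v : K ⊗[k] A) = c • (u : K ⊗[k] A) := by
  obtain ⟨c, hc⟩ := scalar_of_fix_lines hn (M := BrSevSplit.rho e₀ K ((v * u⁻¹ : (K ⊗[k] A)ˣ) : K ⊗[k] A)) fun p hp => by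
    have h1 := congrArg (rmul u⁻¹) (h (ptLine e₀ hA p (isUni_of_field hp)))
    rw [rmul_mul, rmul_mul, mul_inv_cancel, rmul_one, rmul_ptLine e₀ hA _ (isUni_of_field hp)] at h1
    exact exists_smul_of_ptLine_eq e₀ hA h1.symm
  refine ⟨c, ?_⟩
  have h2 : ((v * u⁻¹ : (K ⊗[k] A)ˣ) : K ⊗[k] A) = c • 1 :=
    (BrSevSplit.rho_bijective e₀ K hA).1 (by rw [hc, map_smul, map_one])
  calc (v : K ⊗[k] A) = ((v * u⁻¹ : (K ⊗[k] A)ˣ) : K ⊗[k] A) * u := by
        rw [Units.val_mul, mul_assoc, Units.inv_mul, mul_one]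
    _ = c • (u : K ⊗[k] A) := by rw [h2, smul_one_mul]

theorem mem_range_includeRight [FiniteDimensional k K] [IsGalois k K] (x : K ⊗[k] A)
    (h : ∀ σ : K ≃ₐ[k] K, incA (σ : K →ₐ[k] K) x = x) : ∃ a : A, (1 : K) ⊗ₜ[k] a = x := by
  classical
  let b := Module.finBasis k A
  let B := Algebra.TensorProduct.basis K b
  have hfix : ∀ i, B.repr x i ∈ Set.range (algebraMap k K) := fun i => by
    rw [IsGalois.mem_range_algebraMap_iff_fixed]
    intro σ
    have e : ∀ y : K ⊗[k] A, B.repr (incA (σ : K →ₐ[k] K) y) i = σ (B.repr y i) := fun y => by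
      induction y using TensorProduct.induction_on with
      | zero => simp
      | tmul r a =>
        simp only [Algebra.TensorProduct.map_tmul, AlgHom.id_apply, B, Algebra.TensorProduct.basis_repr_tmul,
          Finsupp.smul_apply, Finsupp.mapRange_apply, smul_eq_mul, map_mul, AlgEquiv.commutes]
        rfl
      | add y z hy hz => simp only [map_add, Finsupp.add_apply, hy, hz]
    rw [← e, h]
  choose r hr using hfix
  refine ⟨∑ i, r i • b i, ?_⟩
  conv_rhs => rw [← B.sum_repr x]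
  rw [TensorProduct.tmul_sum]
  refine Finset.sum_congr rfl fun i _ => ?_
  rw [← hr i, TensorProduct.tmul_smul, algebraMap_smul]
  simp [B, Algebra.TensorProduct.basis_apply]

/-- Natural automorphisms are right multiplications by units. -/
theorem exists_unit [FiniteDimensional k K] [IsGalois k K] (hn : 0 < n)
    (Φ Ψ : ∀ (R : Type u) [CommRing R] [Algebra k R], BrSev.SBSet k A (n * n - n) R → BrSev.SBSet k A (n * n - n) R)
    (hΦ : IsNat Φ) (hΨ : IsNat Ψ) (h : ∀ (R : Type u) [CommRing R] [Algebra k R] N, Ψ R (Φ R N) = N)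
    (hA : Module.finrank k A = n * n) (e₀ : K ⊗[k] A ≃ₐ[K] Matrix (Fin n) (Fin n) K) :
    ∃ a : Aˣ, ∀ (R : Type u) [CommRing R] [Algebra k R] (N : BrSev.SBSet k A (n * n - n) R),
      Φ R N = rmul (aR R a) N := by
  classical
  obtain ⟨β, hβ⟩ := exists_beta hn Φ Ψ hΦ hΨ h hA e₀
  have hbK : bR K β = β := Units.ext (by
    show incA _ (β : K ⊗[k] A) = _
    rw [show ((Algebra.ofId K K).restrictScalars k) = AlgHom.id k K from AlgHom.ext fun x => rfl]
    simp)
  haveI : Nonempty (Fin n) := ⟨⟨0, hn⟩⟩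
  haveI : Nontrivial (K ⊗[k] A) := e₀.toEquiv.nontrivial
  have hβ0 : (β : K ⊗[k] A) ≠ 0 := β.isUnit.ne_zero
  have hσ : ∀ σ : K ≃ₐ[k] K, ∃ c : K, incA (σ : K →ₐ[k] K) (β : K ⊗[k] A) = c • (β : K ⊗[k] A) := by
    intro σ
    refine exists_smul_of_rmul_eq e₀ hA hn β (incU (σ : K →ₐ[k] K) β) fun N => ?_
    obtain ⟨M, rfl⟩ : ∃ M, mapSB (σ : K →ₐ[k] K) M = N :=
      ⟨mapSB (σ.symm : K →ₐ[k] K) N, by rw [← mapSB_comp, AlgEquiv.comp_symm, mapSB_id]⟩
    have h1 := hΦ K K (σ : K →ₐ[k] K) M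
    rw [hβ K, hβ K, hbK, mapSB_rmul] at h1
    exact h1
  choose lam hlam using hσ
  have hlam0 : ∀ σ, lam σ ≠ 0 := fun σ h0 => by
    have h1 := hlam σ
    rw [h0, zero_smul] at h1
    exact ((incU (σ : K →ₐ[k] K) β).isUnit.ne_zero) h1
  have hinc : ∀ (σ : K ≃ₐ[k] K) (c : K) (y : K ⊗[k] A),
      incA (σ : K →ₐ[k] K) (c • y) = σ c • incA (σ : K →ₐ[k] K) y := fun σ c y => by
    rw [← inc_eq, ← inc_eq, GrassRep.inc_smul]
    rfl
  let f : (K ≃ₐ[k] K) → Kˣ := fun σ => Units.mk0 (lam σ) (hlam0 σ)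
  have hf : groupCohomology.IsMulCocycle₁ f := fun σ τ => Units.ext (by
    show lam (σ * τ) = σ (lam τ) * lam σ
    refine smul_left_injective K hβ0 ?_
    show lam (σ * τ) • (β : K ⊗[k] A) = (σ (lam τ) * lam σ) • (β : K ⊗[k] A)
    rw [← hlam, mul_smul, ← hlam, ← hinc, ← hlam, incA_comp]
    rfl)
  obtain ⟨c, hc⟩ := groupCohomology.isMulCoboundary₁_of_isMulCocycle₁_of_aut_to_units f hf
  have hc' : ∀ σ : K ≃ₐ[k] K, σ (c : K) = lam σ * (c : K) := fun σ => by
    have := congrArg Units.val (hc σ)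
    simp only [AlgEquiv.smul_units_def, Units.val_div_eq_div_val, Units.coe_map, MonoidHom.coe_coe, f,
      Units.val_mk0] at this
    rw [← this, div_mul_cancel₀ _ c.ne_zero]
  let cu : (K ⊗[k] A)ˣ := Units.map (algebraMap K (K ⊗[k] A)).toMonoidHom c
  let γ : (K ⊗[k] A)ˣ := β * cu⁻¹
  have hγval : (γ : K ⊗[k] A) = (↑c⁻¹ : K) • (β : K ⊗[k] A) := by
    show (β : K ⊗[k] A) * algebraMap K (K ⊗[k] A) (↑c⁻¹ : K) = _
    rw [← Algebra.commutes, ← Algebra.smul_def]
  have hγfix : ∀ σ : K ≃ₐ[k] K, incU (σ : K →ₐ[k] K) γ = γ := fun σ => Units.ext (by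
    show incA (σ : K →ₐ[k] K) (γ : K ⊗[k] A) = γ
    rw [hγval, hinc, hlam, smul_smul]
    congr 1
    rw [Units.val_inv_eq_inv_val, map_inv₀, hc', mul_inv, mul_right_comm, inv_mul_cancel₀ (hlam0 σ), one_mul])
  obtain ⟨a, ha⟩ := mem_range_includeRight (γ : K ⊗[k] A) fun σ => congrArg Units.val (hγfix σ)
  obtain ⟨a', ha'⟩ := mem_range_includeRight (↑γ⁻¹ : K ⊗[k] A) fun σ => by
    have h1 := congrArg (fun z : (K ⊗[k] A)ˣ => ((z⁻¹ : (K ⊗[k] A)ˣ) : K ⊗[k] A)) (hγfix σ)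
    exact (congrArg Units.val (map_inv (incU (σ : K →ₐ[k] K)) γ)).trans h1
  have hinj : Function.Injective fun x : A => (1 : K) ⊗ₜ[k] x :=
    Algebra.TensorProduct.includeRight_injective (algebraMap k K).injective
  let au : Aˣ := ⟨a, a', hinj (by
      show (1 : K) ⊗ₜ[k] (a * a') = (1 : K) ⊗ₜ[k] (1 : A)
      rw [show (1 : K) ⊗ₜ[k] (a * a') = ((1 : K) ⊗ₜ[k] a) * ((1 : K) ⊗ₜ[k] a') by simp, ha, ha', Units.mul_inv]
      rfl), hinj (by
      show (1 : K) ⊗ₜ[k] (a' * a) = (1 : K) ⊗ₜ[k] (1 : A)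
      rw [show (1 : K) ⊗ₜ[k] (a' * a) = ((1 : K) ⊗ₜ[k] a') * ((1 : K) ⊗ₜ[k] a) by simp, ha, ha', Units.inv_mul]
      rfl)⟩
  have hau : β = aR K au * cu := by
    rw [show aR K au = γ from Units.ext ha, inv_mul_cancel_right]
  have hscal : ∀ (R : Type u) [CommRing R] [Algebra k R] [Algebra K R] [IsScalarTower k K R]
      (N : BrSev.SBSet k A (n * n - n) R), rmul (bR R cu) N = N := fun R _ _ _ _ N =>
    Subtype.ext (LinkedGrass.eq_of_le fun x hx => by
      rw [mem_rmul] at hx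
      have h1 : ((bR R cu : (R ⊗[k] A)ˣ) : R ⊗[k] A) = algebraMap K R (c : K) • (1 : R ⊗[k] A) := by
        show incA _ (algebraMap K (K ⊗[k] A) (c : K)) = _
        simp [Algebra.TensorProduct.algebraMap_apply, Algebra.TensorProduct.one_def, TensorProduct.smul_tmul', Algebra.algebraMap_eq_smul_one]
      have h2 : x = algebraMap K R (c : K) • (x * ↑(bR R cu)⁻¹) := by
        calc x = x * ↑(bR R cu)⁻¹ * ((bR R cu : (R ⊗[k] A)ˣ) : R ⊗[k] A) := by rw [Units.inv_mul_cancel_right]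
          _ = _ := by rw [h1, mul_smul_comm, mul_one]
      rw [h2]
      exact Submodule.smul_mem _ _ hx)
  refine ⟨au, fun R _ _ N => ?_⟩
  refine eq_of_jointly (fun _ : Unit => (Algebra.TensorProduct.includeRight : R →ₐ[k] K ⊗[k] R))
    (fun r hr => Algebra.TensorProduct.includeRight_injective (algebraMap k K).injective
      ((hr ()).trans (map_zero (Algebra.TensorProduct.includeRight : R →ₐ[k] K ⊗[k] R)).symm)) fun _ => ?_
  rw [← hΦ, hβ (K ⊗[k] R), mapSB_rmul, incU_aR, hau,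
    show bR (K ⊗[k] R) (aR K au * cu) = aR (K ⊗[k] R) au * bR (K ⊗[k] R) cu by
      rw [← incU_aR ((Algebra.ofId K (K ⊗[k] R)).restrictScalars k)]
      exact map_mul _ _ _,
    ← rmul_mul, hscal]

end Groth.Agent.PglPts
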