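import Groth.Agent.PglPts.Basic

/-! Left ideals of rank one lines after splitting. -/

set_option autoImplicit false
set_option maxSynthPendingDepth 3

universe u

noncomputable section

open scoped TensorProduct Matrix
open Module

namespace Groth.Agent.PglPts

open BrSevSplit

variable {k : Type u} [Field k] {A : Type u} [Ring A] [Algebra k A] [Module.Finite k A]
  {K : Type u} [Field K] [Algebra k K] {n : ℕ}
  (e₀ : K ⊗[k] A ≃ₐ[K] Matrix (Fin n) (Fin n) K) (hA : Module.finrank k A = n * n)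
  {R : Type u} [CommRing R] [Algebra k R] [Algebra K R] [IsScalarTower k K R]
  {S : Type u} [CommRing S] [Algebra k S] [Algebra K S] [IsScalarTower k K S]

/-- Unimodular vectors. -/
def IsUni (p : Fin n → R) : Prop := ∃ c : Fin n → R, p ⬝ᵥ c = 1

theorem IsUni.map {p : Fin n → R} (h : IsUni p) {F : Type*} [FunLike F R S] [RingHomClass F R S] (φ : F) :
    IsUni fun l => φ (p l) := by
  obtain ⟨c, hc⟩ := h
  exact ⟨fun l => φ (c l), by simpa [dotProduct, map_sum, map_mul] using congrArg φ hc⟩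

theorem isUni_of_isUnit {p : Fin n → R} {i : Fin n} (h : IsUnit (p i)) : IsUni p :=
  ⟨Pi.single i ↑h.unit⁻¹, by rw [dotProduct_single]; exact h.mul_val_inv⟩

omit [Algebra k R] [Algebra K R] [IsScalarTower k K R] in
theorem span_props {p : Fin n → R} (hp : IsUni p) :
    Module.Finite R ((Fin n → R) ⧸ (R ∙ p)) ∧ Module.Projective R ((Fin n → R) ⧸ (R ∙ p)) ∧
      ∀ x, rankAtStalk (R := R) ((Fin n → R) ⧸ (R ∙ p)) x = n - 1 := by
  obtain ⟨c, hc⟩ := hp
  let d : (Fin n → R) →ₗ[R] R :=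
    { toFun := fun v => v ⬝ᵥ c
      map_add' := fun v w => add_dotProduct v w c
      map_smul' := fun r v => smul_dotProduct r v c }
  have hd : d p = 1 := hc
  let s : ((Fin n → R) ⧸ (R ∙ p)) →ₗ[R] (Fin n → R) :=
    (R ∙ p).liftQ (LinearMap.id - d.smulRight p) (by
      rw [Submodule.span_le, Set.singleton_subset_iff, SetLike.mem_coe, LinearMap.mem_ker]
      simp [hd])
  have hps : (R ∙ p).mkQ p = 0 := (Submodule.Quotient.mk_eq_zero _).2 (Submodule.mem_span_singleton_self p)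
  have hs : ∀ v, s ((R ∙ p).mkQ v) = v - d v • p := fun v => rfl
  have hsplit : (R ∙ p).mkQ.comp s = LinearMap.id := LinearMap.ext fun q => by
    obtain ⟨v, rfl⟩ := (R ∙ p).mkQ_surjective q
    rw [LinearMap.comp_apply, hs, map_sub, map_smul, hps, smul_zero, sub_zero, LinearMap.id_apply]
  haveI hP : Module.Projective R ((Fin n → R) ⧸ (R ∙ p)) := Module.Projective.of_split s (R ∙ p).mkQ hsplit
  haveI hF : Module.Finite R ((Fin n → R) ⧸ (R ∙ p)) := inferInstance
  refine ⟨hF, hP, fun x => ?_⟩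
  haveI : Nontrivial R := x.nontrivial
  let e : (Fin n → R) ≃ₗ[R] R × ((Fin n → R) ⧸ (R ∙ p)) :=
    { d.prod (R ∙ p).mkQ with
      invFun := fun z => z.1 • p + s z.2
      left_inv := fun v => by
        show d v • p + s ((R ∙ p).mkQ v) = v
        rw [hs, add_sub_cancel]
      right_inv := fun z => by
        obtain ⟨r, q⟩ := z
        obtain ⟨v, rfl⟩ := (R ∙ p).mkQ_surjective q
        refine Prod.ext ?_ ?_
        · show d (r • p + s ((R ∙ p).mkQ v)) = r
          rw [hs, map_add, map_sub, map_smul, map_smul, hd, smul_eq_mul, smul_eq_mul, mul_one, mul_one,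
            sub_self, add_zero]
        · show (R ∙ p).mkQ (r • p + s ((R ∙ p).mkQ v)) = (R ∙ p).mkQ v
          rw [hs, map_add, map_sub, map_smul, map_smul, hps, smul_zero, smul_zero, sub_zero, zero_add] }
  have h1 := congrFun (rankAtStalk_eq_of_equiv e) x
  rw [rankAtStalk_prod, Pi.add_apply, rankAtStalk_eq_finrank_of_free, Module.finrank_pi,
    Fintype.card_fin] at h1
  have h2 : rankAtStalk (R := R) R x = 1 := by rw [rankAtStalk_self]; rfl
  simp only [h2, Pi.natCast_apply, Nat.cast_id] at h1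
  omega

/-- The point given by a unimodular vector: matrices with all rows multiples of it. -/
def ptLine (p : Fin n → R) (hp : IsUni p) : BrSev.SBSet k A (n * n - n) R :=
  haveI h := span_props hp
  haveI : Module.Finite R ((Fin n → R) ⧸ (R ∙ p)) := h.1
  haveI : Module.Projective R ((Fin n → R) ⧸ (R ∙ p)) := h.2.1
  haveI h2 := mat_props (R ∙ p)
  ⟨{ toSubmodule := (matSub (R ∙ p)).comap (rhoE e₀ R hA).toLinearEquiv.toLinearMap
     finite_quotient := haveI := h2.1; Module.Finite.equiv (quotComapEquiv (rhoE e₀ R hA).toLinearEquiv _).symm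
     projective_quotient := haveI := h2.2.1; Module.Projective.of_equiv (quotComapEquiv (rhoE e₀ R hA).toLinearEquiv _).symm
     rankAtStalk_eq := fun x => by
       haveI := h2.1
       haveI := h2.2.1
       rw [Module.rankAtStalk_eq_of_equiv (quotComapEquiv (rhoE e₀ R hA).toLinearEquiv _), h2.2.2, h.2.2,
         Nat.mul_sub, mul_one] },
    fun a x hx => by
      rw [Submodule.mem_comap] at hx ⊢
      show rhoE e₀ R hA (a * x) ∈ _
      rw [map_mul]
      exact mul_mem_matSub _ hx⟩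

theorem mem_ptLine {p : Fin n → R} {hp : IsUni p} {x : R ⊗[k] A} :
    x ∈ (ptLine e₀ hA p hp).1.toSubmodule ↔ ∀ i, ∃ a : R, a • p = rho e₀ R x i :=
  forall_congr' fun _ => Submodule.mem_span_singleton

theorem ptLine_eq_of_smul {p q : Fin n → R} {hp : IsUni p} {hq : IsUni q} {a : R} (h : q = a • p) :
    ptLine e₀ hA q hq = ptLine e₀ hA p hp :=
  Subtype.ext (LinkedGrass.eq_of_le fun x hx => (mem_ptLine e₀ hA).2 fun i => by
    obtain ⟨b, hb⟩ := (mem_ptLine e₀ hA).1 hx i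
    exact ⟨b * a, by rw [← hb, h, smul_smul]⟩)

theorem exists_smul_of_ptLine_eq {p q : Fin n → R} {hp : IsUni p} {hq : IsUni q}
    (h : ptLine e₀ hA q hq = ptLine e₀ hA p hp) : ∃ a : R, q = a • p := by
  rcases Nat.eq_zero_or_pos n with rfl | hn
  · exact ⟨1, funext fun i => i.elim0⟩
  obtain ⟨x, hx⟩ := (rho_bijective e₀ R hA).2 (rowEmb ⟨0, hn⟩ q)
  have hxm : x ∈ (ptLine e₀ hA q hq).1.toSubmodule := (mem_ptLine e₀ hA).2 fun i => by
    rw [hx, rowEmb_apply]
    split
    · exact ⟨1, one_smul _ _⟩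
    · exact ⟨0, zero_smul _ _⟩
  rw [h, mem_ptLine] at hxm
  obtain ⟨a, ha⟩ := hxm ⟨0, hn⟩
  rw [hx, rowEmb_apply, if_pos rfl] at ha
  exact ⟨a, ha.symm⟩

theorem mapSB_ptLine (φ : R →ₐ[K] S) {p : Fin n → R} (hp : IsUni p) (hq : IsUni fun l => φ (p l)) :
    mapSB (φ.restrictScalars k) (ptLine e₀ hA p hp) = ptLine e₀ hA (fun l => φ (p l)) hq :=
  mapSB_eq_of_le fun x hx => (mem_ptLine e₀ hA).2 fun i => by
    obtain ⟨a, ha⟩ := (mem_ptLine e₀ hA).1 hx i
    refine ⟨φ a, funext fun l => ?_⟩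
    rw [← inc_eq, rho_inc]
    rw [Matrix.map_apply, ← ha, Pi.smul_apply, Pi.smul_apply, smul_eq_mul, smul_eq_mul, map_mul]

theorem isUni_vecMul (β : (R ⊗[k] A)ˣ) {p : Fin n → R} (hp : IsUni p) :
    IsUni (p ᵥ* rho e₀ R (β : R ⊗[k] A)) := by
  obtain ⟨c, hc⟩ := hp
  refine ⟨rho e₀ R (↑β⁻¹ : R ⊗[k] A) *ᵥ c, ?_⟩
  rw [Matrix.dotProduct_mulVec, Matrix.vecMul_vecMul, ← map_mul, Units.mul_inv, map_one, Matrix.vecMul_one, hc]

theorem rmul_ptLine (β : (R ⊗[k] A)ˣ) {p : Fin n → R} (hp : IsUni p) :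
    rmul β (ptLine e₀ hA p hp) = ptLine e₀ hA (p ᵥ* rho e₀ R (β : R ⊗[k] A)) (isUni_vecMul e₀ β hp) :=
  Subtype.ext (LinkedGrass.eq_of_le fun x hx => (mem_ptLine e₀ hA).2 fun i => by
    obtain ⟨a, ha⟩ := (mem_ptLine e₀ hA).1 (mem_rmul.1 hx) i
    refine ⟨a, ?_⟩
    rw [← Matrix.smul_vecMul, ha, map_mul, show (rho e₀ R x * rho e₀ R (↑β⁻¹ : R ⊗[k] A)) i =
        rho e₀ R x i ᵥ* rho e₀ R (↑β⁻¹ : R ⊗[k] A) from rfl, Matrix.vecMul_vecMul, ← map_mul,
      Units.inv_mul, map_one, Matrix.vecMul_one])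

/-- The row space of a point. -/
def rowP (hn : 0 < n) (N : BrSev.SBSet k A (n * n - n) R) : Submodule R (Fin n → R) :=
  rowSp ⟨0, hn⟩ (N.1.toSubmodule.comap (rhoE e₀ R hA).toLinearEquiv.symm.toLinearMap)

theorem mem_iff_rowP (hn : 0 < n) (N : BrSev.SBSet k A (n * n - n) R) (x : R ⊗[k] A) :
    x ∈ N.1.toSubmodule ↔ ∀ i, rho e₀ R x i ∈ rowP e₀ hA hn N := by
  rw [← mem_matSub]
  unfold rowP
  rw [matSub_rowSp]
  · rw [Submodule.mem_comap]
    show _ ↔ (rhoE e₀ R hA).symm (rhoE e₀ R hA x) ∈ _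
    rw [AlgEquiv.symm_apply_apply]
  · intro a y hy
    rw [Submodule.mem_comap] at hy ⊢
    show (rhoE e₀ R hA).symm (a * y) ∈ _
    rw [map_mul]
    exact N.2 _ _ hy

theorem rowP_props (hn : 0 < n) (N : BrSev.SBSet k A (n * n - n) R) :
    Module.Finite R ((Fin n → R) ⧸ rowP e₀ hA hn N) ∧ Module.Projective R ((Fin n → R) ⧸ rowP e₀ hA hn N) ∧
      ∀ x, rankAtStalk (R := R) ((Fin n → R) ⧸ rowP e₀ hA hn N) x = n - 1 := by
  set P := rowP e₀ hA hn N
  have hN : matSub P = N.1.toSubmodule.comap (rhoE e₀ R hA).toLinearEquiv.symm.toLinearMap := by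
    refine matSub_rowSp _ _ fun a x hx => ?_
    rw [Submodule.mem_comap] at hx ⊢
    show (rhoE e₀ R hA).symm (a * x) ∈ _
    rw [map_mul]
    exact N.2 _ _ hx
  have e1 := quotComapEquiv (rhoE e₀ R hA).toLinearEquiv.symm N.1.toSubmodule
  rw [← hN] at e1
  haveI : Module.Finite R (Matrix (Fin n) (Fin n) R ⧸ matSub P) := Module.Finite.equiv e1.symm
  haveI : Module.Projective R (Matrix (Fin n) (Fin n) R ⧸ matSub P) := Module.Projective.of_equiv e1.symm
  obtain ⟨hf, hp⟩ := quot_props P ⟨0, hn⟩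
  refine ⟨hf, hp, fun x => ?_⟩
  haveI := hf
  haveI := hp
  have h1 := (mat_props P).2.2 x
  rw [Module.rankAtStalk_eq_of_equiv e1, N.1.rankAtStalk_eq x] at h1
  have e2 : n * n - n = n * (n - 1) := by rw [Nat.mul_sub, mul_one]
  exact (Nat.eq_of_mul_eq_mul_left hn (e2.symm.trans h1)).symm

theorem eq_ptLine_of_rowP (hn : 0 < n) (N : BrSev.SBSet k A (n * n - n) R) (q : Fin n → R)
    (hq0 : ∀ r : R, r • q = 0 → r = 0) (h : rowP e₀ hA hn N = R ∙ q) :
    ∃ hq : IsUni q, N = ptLine e₀ hA q hq := by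
  obtain ⟨hf, hp, -⟩ := rowP_props e₀ hA hn N
  rw [h] at hf hp
  haveI := hp
  obtain ⟨s, hs⟩ := Module.projective_lifting_property (R ∙ q).mkQ LinearMap.id (R ∙ q).mkQ_surjective
  have hr : ∀ v, ∃ a : R, a • q = v - s ((R ∙ q).mkQ v) := fun v => by
    rw [← Submodule.mem_span_singleton, ← Submodule.Quotient.mk_eq_zero, ← Submodule.mkQ_apply, map_sub]
    exact sub_eq_zero.2 (LinearMap.congr_fun hs _).symm
  choose a ha using fun l : Fin n => hr (Pi.single l 1)
  have hq : q ⬝ᵥ a = 1 := by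
    have hqs : s ((R ∙ q).mkQ q) = 0 := by
      rw [show (R ∙ q).mkQ q = 0 from (Submodule.Quotient.mk_eq_zero _).2 (Submodule.mem_span_singleton_self q),
        map_zero]
    have e : (q ⬝ᵥ a) • q = q := by
      calc (q ⬝ᵥ a) • q = ∑ l, q l • (Pi.single l (1 : R) - s ((R ∙ q).mkQ (Pi.single l 1))) := by
            simp only [← ha, dotProduct, Finset.sum_smul, smul_smul]
        _ = (∑ l, q l • Pi.single l (1 : R)) - s ((R ∙ q).mkQ (∑ l, q l • Pi.single l (1 : R))) := by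
            simp only [smul_sub, Finset.sum_sub_distrib, map_sum, map_smul]
        _ = q := by rw [← pi_eq_sum_univ' q, hqs, sub_zero]
    exact sub_eq_zero.1 (hq0 _ (by rw [sub_smul, e, one_smul, sub_self]))
  refine ⟨⟨a, hq⟩, Subtype.ext (Module.Grassmannian.ext (Submodule.ext fun x => ?_))⟩
  rw [mem_iff_rowP e₀ hA hn, mem_ptLine, h]
  exact forall_congr' fun _ => Submodule.mem_span_singleton

theorem exists_ptLine [IsLocalRing R] (hn : 0 < n) (N : BrSev.SBSet k A (n * n - n) R) :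
    ∃ (q : Fin n → R) (hq : IsUni q), N = ptLine e₀ hA q hq := by
  set P := rowP e₀ hA hn N with hP
  obtain ⟨hf, hp, hrk⟩ := rowP_props e₀ hA hn N
  haveI := hf; haveI := hp
  obtain ⟨s, hs⟩ := Module.projective_lifting_property P.mkQ LinearMap.id P.mkQ_surjective
  let π : (Fin n → R) →ₗ[R] P := (LinearMap.id - s.comp P.mkQ).codRestrict P fun z => by
    rw [← Submodule.Quotient.mk_eq_zero, ← Submodule.mkQ_apply, LinearMap.sub_apply, map_sub]
    exact sub_eq_zero.2 (LinearMap.congr_fun hs _).symm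
  have hπ : π.comp P.subtype = LinearMap.id := LinearMap.ext fun p => Subtype.ext (by
    show (p : Fin n → R) - s (P.mkQ p) = p
    rw [show P.mkQ (p : Fin n → R) = 0 from (Submodule.Quotient.mk_eq_zero _).2 p.2, map_zero, sub_zero])
  haveI : Module.Projective R P := Module.Projective.of_split P.subtype π hπ
  haveI : Module.Finite R P := Module.Finite.of_surjective π fun p => ⟨p, LinearMap.congr_fun hπ p⟩
  haveI : Module.Free R P := Module.free_of_flat_of_isLocalRing
  haveI : Module.Free R ((Fin n → R) ⧸ P) := Module.free_of_flat_of_isLocalRing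
  let e : (Fin n → R) ≃ₗ[R] P × ((Fin n → R) ⧸ P) :=
    { π.prod P.mkQ with
      invFun := fun z => (z.1 : Fin n → R) + s z.2
      left_inv := fun z => sub_add_cancel z _
      right_inv := fun z => by
        have h0 : P.mkQ (z.1 : Fin n → R) = 0 := (Submodule.Quotient.mk_eq_zero _).2 z.1.2
        have hms : P.mkQ (s z.2) = z.2 := LinearMap.congr_fun hs z.2
        refine Prod.ext (Subtype.ext ?_) ?_
        · show (z.1 : Fin n → R) + s z.2 - s (P.mkQ ((z.1 : Fin n → R) + s z.2)) = z.1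
          rw [map_add P.mkQ, h0, hms, zero_add, add_sub_cancel_right]
        · show P.mkQ ((z.1 : Fin n → R) + s z.2) = z.2
          rw [map_add, h0, hms, zero_add] }
  have h1 : Module.finrank R P = 1 := by
    have h := e.finrank_eq
    rw [Module.finrank_prod, Module.finrank_pi, Fintype.card_fin] at h
    have h2 := hrk ⟨IsLocalRing.maximalIdeal R, inferInstance⟩
    rw [rankAtStalk_eq_finrank_of_free] at h2
    simp only [Pi.natCast_apply, Nat.cast_id] at h2
    rw [← hP] at h2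
    omega
  let b : Basis (Fin 1) R P := Module.finBasisOfFinrankEq R P h1
  refine ⟨(b 0 : P), eq_ptLine_of_rowP e₀ hA hn N _ (fun r hr => ?_) (le_antisymm (fun v hv => ?_) ?_)⟩
  · have h0 : r • b 0 = 0 := Subtype.ext hr
    have := congrArg (fun z => b.repr z 0) h0
    simpa using this
  · refine Submodule.mem_span_singleton.2 ⟨b.repr ⟨v, hv⟩ 0, ?_⟩
    have := congrArg Subtype.val (b.sum_repr ⟨v, hv⟩)
    simpa using this
  · rw [Submodule.span_le, Set.singleton_subset_iff]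
    exact (b 0).2

/-- Saturation: a point is determined by its image in a larger domain. -/
theorem eq_ptLine_of_sat (hn : 0 < n) [IsDomain R] (φ : R →ₐ[K] S) (hφ : Function.Injective φ)
    (N : BrSev.SBSet k A (n * n - n) R) {q : Fin n → S} {hq : IsUni q}
    (h : mapSB (φ.restrictScalars k) N = ptLine e₀ hA q hq) (q₀ : Fin n → R) (h0 : q₀ ≠ 0)
    (hsat : ∀ v : Fin n → R, (∃ l : S, l • q = fun i => φ (v i)) ↔ ∃ a : R, a • q₀ = v) :
    ∃ hq₀ : IsUni q₀, N = ptLine e₀ hA q₀ hq₀ := by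
  refine eq_ptLine_of_rowP e₀ hA hn N q₀ (fun r hr => (smul_eq_zero.1 hr).resolve_right h0) ?_
  ext v
  rw [Submodule.mem_span_singleton, ← hsat]
  obtain ⟨x, hx⟩ := (rho_bijective e₀ R hA).2 (rowEmb ⟨0, hn⟩ v)
  have h1 : v ∈ rowP e₀ hA hn N ↔ x ∈ N.1.toSubmodule := by
    rw [mem_iff_rowP e₀ hA hn N x, hx]
    refine ⟨fun hv i => ?_, fun hv => by simpa [rowEmb_apply] using hv ⟨0, hn⟩⟩
    rw [rowEmb_apply]
    split
    · exact hv
    · exact zero_mem _
  rw [h1, ← mem_iff_of_injective (φ := φ.restrictScalars k) hφ N x, h, mem_ptLine]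
  have h2 : ∀ i, rho e₀ S (incA (φ.restrictScalars k) x) i = fun l => φ (rowEmb ⟨0, hn⟩ v i l) := fun i => by
    rw [← inc_eq, rho_inc, hx]
    rfl
  refine ⟨fun hh => ?_, fun ⟨l, hl⟩ i => ?_⟩
  · obtain ⟨a, ha⟩ := hh ⟨0, hn⟩
    rw [h2, rowEmb_apply, if_pos rfl] at ha
    exact ⟨a, ha⟩
  · rw [h2, rowEmb_apply]
    split
    · exact ⟨l, hl⟩
    · exact ⟨0, by rw [zero_smul]; funext j; simp⟩

end Groth.Agent.PglPts
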