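import Mathlib

/-! Primitive tuples of polynomials. -/

set_option autoImplicit false

universe u v

noncomputable section

open MvPolynomial

namespace Groth.Agent.PglPts

/-- Primitive tuples. -/
def Prim {n : ℕ} {R : Type v} [CommRing R] (q : Fin n → R) : Prop :=
  ∀ b a : R, (∀ l, b ∣ a * q l) → b ∣ a

section UFD

variable {n : ℕ} {R : Type v} [CommRing R] [IsDomain R] [UniqueFactorizationMonoid R]

theorem prim_of_forall_dvd {q : Fin n → R} (h : ∀ d, (∀ l, d ∣ q l) → IsUnit d) : Prim q := by
  classical
  letI := Classical.arbitrary (NormalizedGCDMonoid R)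
  intro b a hb
  have h1 : b ∣ Finset.univ.gcd fun l => a * q l := Finset.dvd_gcd fun l _ => hb l
  have h2 : IsUnit (Finset.univ.gcd q) := h _ fun l => Finset.gcd_dvd (Finset.mem_univ l)
  exact (h2.dvd_mul_right).1 ((Finset.gcd_mul_left' (s := Finset.univ) (f := q) a).dvd_iff_dvd_right.1 h1)

theorem exists_prim {L : Type v} [Field L] [Algebra R L] [IsFractionRing R L] (q : Fin n → L) (hq : q ≠ 0) :
    ∃ (q₀ : Fin n → R) (lam : L), Prim q₀ ∧ lam ≠ 0 ∧ q = fun l => lam * algebraMap R L (q₀ l) := by
  classical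
  letI := Classical.arbitrary (NormalizedGCDMonoid R)
  obtain ⟨b, hb⟩ := IsLocalization.exist_integer_multiples (nonZeroDivisors R) (Finset.univ : Finset (Fin n)) q
  choose w hw using fun l => hb l (Finset.mem_univ l)
  obtain ⟨l₀, hl₀⟩ := Function.ne_iff.1 hq
  haveI : Nonempty (Fin n) := ⟨l₀⟩
  obtain ⟨g, hg, hg1⟩ := Finset.extract_gcd (s := Finset.univ) w Finset.univ_nonempty
  set G := Finset.univ.gcd w
  have hbL : algebraMap R L (b : R) ≠ 0 := fun h => nonZeroDivisors.coe_ne_zero b
    (IsFractionRing.injective R L (h.trans (map_zero _).symm))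
  have key : ∀ l, algebraMap R L (b : R) * q l = algebraMap R L G * algebraMap R L (g l) := fun l => by
    rw [← map_mul, ← hg l (Finset.mem_univ l), hw l, Algebra.smul_def]
  refine ⟨g, algebraMap R L G / algebraMap R L (b : R), prim_of_forall_dvd fun d hd => ?_, ?_, funext fun l => ?_⟩
  · exact isUnit_of_dvd_one (hg1 ▸ Finset.dvd_gcd fun l _ => hd l)
  · refine div_ne_zero (fun h => hl₀ ?_) hbL
    have := key l₀
    rw [h, zero_mul] at this
    exact (mul_eq_zero.1 this).resolve_left hbL
  · rw [div_mul_eq_mul_div, eq_div_iff hbL, mul_comm, key]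

end UFD

theorem Prim.ne_zero {n : ℕ} {R : Type v} [CommRing R] [Nontrivial R] {q : Fin n → R} (hq : Prim q) :
    q ≠ 0 := fun h => not_isUnit_zero (isUnit_of_dvd_one (hq 0 1 fun l => by simp [h]))

/-- Saturation of a primitive tuple. -/
theorem Prim.exists_smul_of_cross {n : ℕ} {R : Type v} [CommRing R] [IsDomain R] {q v : Fin n → R}
    (hq : Prim q) (h : ∀ l m, v l * q m = v m * q l) : ∃ a : R, a • q = v := by
  obtain ⟨m, hm⟩ := Function.ne_iff.1 hq.ne_zero
  simp only [Pi.zero_apply] at hm
  obtain ⟨a, ha⟩ := hq (q m) (v m) fun l => ⟨v l, by rw [← h l m, mul_comm]⟩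
  refine ⟨a, funext fun l => ?_⟩
  have h1 := h l m
  rw [ha, mul_assoc, mul_comm (v l)] at h1
  exact (mul_left_cancel₀ hm h1).symm

variable {σ : Type u} {R : Type v} [CommRing R] {A : Type*} [CommRing A] [Algebra R A]

theorem aeval_scale {P : MvPolynomial σ R} {j : ℕ} (hP : P.IsHomogeneous j) (t : A) (p : σ → A) :
    aeval (fun l => t * p l) P = t ^ j * aeval p P := by
  conv_lhs => rw [P.as_sum]
  conv_rhs => rw [P.as_sum]
  rw [map_sum, map_sum, Finset.mul_sum]
  refine Finset.sum_congr rfl fun d hd => ?_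
  have hdeg : ∑ i ∈ d.support, d i = j := by
    rw [← hP (mem_support_iff.1 hd)]
    simp [Finsupp.weight_apply, Finsupp.sum]
  rw [aeval_monomial, aeval_monomial]
  simp only [Finsupp.prod, mul_pow, Finset.prod_mul_distrib, Finset.prod_pow_eq_pow_sum, hdeg]
  ring

/-- A tuple that only gets rescaled when the variables are, is homogeneous. -/
theorem homogeneous_of_prim {n : ℕ} {K : Type u} [Field K] {F : Fin n → MvPolynomial (Fin n) K}
    (hF : Prim F)
    (h : ∀ l m, aeval (fun i => Polynomial.X * Polynomial.C (X i : MvPolynomial (Fin n) K)) (F l) *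
        Polynomial.C (F m) =
      aeval (fun i => Polynomial.X * Polynomial.C (X i : MvPolynomial (Fin n) K)) (F m) * Polynomial.C (F l)) :
    ∃ D, ∀ l, (F l).IsHomogeneous D := by
  classical
  have hco : ∀ (P : MvPolynomial (Fin n) K) (j : ℕ),
      (aeval (fun i => Polynomial.X * Polynomial.C (X i : MvPolynomial (Fin n) K)) P).coeff j =
        homogeneousComponent j P := by
    intro P j
    have hC : ∀ Q : MvPolynomial (Fin n) K,
        aeval (fun i => Polynomial.C (X i : MvPolynomial (Fin n) K)) Q = Polynomial.C Q := fun Q => by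
      have := aeval_algebraMap_apply (B := Polynomial (MvPolynomial (Fin n) K)) (X : Fin n → MvPolynomial (Fin n) K) Q
      rwa [aeval_X_left_apply] at this
    conv_lhs => rw [← sum_homogeneousComponent P]
    rw [map_sum, Polynomial.finsetSum_coeff]
    simp only [aeval_scale (homogeneousComponent_isHomogeneous _ P), hC, Polynomial.X_pow_mul_C,
      Polynomial.coeff_C_mul_X_pow]
    rw [Finset.sum_ite_eq]
    split_ifs with hj
    · rfl
    · exact (homogeneousComponent_eq_zero _ _ (by rw [Finset.mem_range] at hj; omega)).symm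
  have hh : ∀ j, ∃ a, a • F = fun l => homogeneousComponent j (F l) := fun j =>
    hF.exists_smul_of_cross fun l m => by
      have := congrArg (fun q => Polynomial.coeff q j) (h l m)
      simp only [Polynomial.coeff_mul_C] at this
      rwa [hco, hco] at this
  haveI : Nonempty (Fin n) := by
    obtain ⟨l, -⟩ := Function.ne_iff.1 hF.ne_zero
    exact ⟨l⟩
  obtain ⟨l₀, -, hl₀⟩ := Finset.exists_max_image Finset.univ (fun l => (F l).totalDegree) Finset.univ_nonempty
  set D := (F l₀).totalDegree
  obtain ⟨a, ha⟩ := hh D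
  by_cases hF0 : F l₀ = 0
  · have hD : D = 0 := by show (F l₀).totalDegree = 0; rw [hF0, totalDegree_zero]
    exact ⟨0, fun l => (totalDegree_zero_iff_isHomogeneous _).1
      (Nat.le_zero.1 ((hl₀ l (Finset.mem_univ l)).trans hD.le))⟩
  have hne : homogeneousComponent D (F l₀) ≠ 0 := by
    obtain ⟨d, hd, hdeg⟩ := (F l₀).support.exists_mem_eq_sup (by simpa using hF0) fun s => s.sum fun _ e => e
    intro h0
    have := congrArg (coeff d) h0
    rw [coeff_homogeneousComponent, coeff_zero, if_pos] at this
    · exact mem_support_iff.1 hd this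
    · show Finsupp.degree d = (F l₀).totalDegree
      rw [totalDegree, hdeg]
      rfl
  have ha0 : a ≠ 0 := fun h0 => hne (by
    have := congrFun ha l₀
    simpa [h0] using this.symm)
  have hadeg : a.totalDegree = 0 := by
    have h1 := congrFun ha l₀
    simp only [Pi.smul_apply, smul_eq_mul] at h1
    have h2 := totalDegree_mul_of_isDomain ha0 hF0
    rw [h1, (homogeneousComponent_isHomogeneous D _).totalDegree hne] at h2
    change D = a.totalDegree + D at h2
    omega
  obtain ⟨c, rfl⟩ : ∃ c, a = C c := ⟨_, totalDegree_eq_zero_iff_eq_C.1 hadeg⟩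
  have hc : c ≠ 0 := fun h0 => ha0 (by rw [h0, C_0])
  refine ⟨D, fun l => ?_⟩
  have h1 := congrFun ha l
  simp only [Pi.smul_apply, smul_eq_mul] at h1
  have h2 : F l = C c⁻¹ * homogeneousComponent D (F l) := by
    rw [← h1, ← mul_assoc, ← C_mul, inv_mul_cancel₀ hc, C_1, one_mul]
  rw [h2]
  simpa using (isHomogeneous_C (Fin n) c⁻¹).mul (homogeneousComponent_isHomogeneous D (F l))

/-- The matrix of a tuple of linear forms. -/
theorem exists_matrix {n : ℕ} {K : Type u} [Field K] {F : Fin n → MvPolynomial (Fin n) K}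
    (hF : ∀ l, (F l).IsHomogeneous 1) :
    ∃ g : Matrix (Fin n) (Fin n) K, ∀ (A : Type u) [CommRing A] [Algebra K A] (p : Fin n → A),
      (fun l => aeval p (F l)) = Matrix.vecMul p (g.map (algebraMap K A)) := by
  classical
  refine ⟨Matrix.of fun i l => coeff (Finsupp.single i 1) (F l), fun A _ _ p => funext fun l => ?_⟩
  have h : F l = ∑ i, C (coeff (Finsupp.single i 1) (F l)) * X i := by
    ext d
    rw [coeff_sum]
    simp only [coeff_C_mul, coeff_X', mul_ite, mul_one, mul_zero]
    by_cases hd : d.degree = 1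
    · obtain ⟨i, rfl⟩ : ∃ i, d = Finsupp.single i 1 := by
        obtain ⟨i, hi⟩ : ∃ i, d i ≠ 0 := by
          by_contra hne
          push Not at hne
          rw [show d = 0 from Finsupp.ext hne] at hd
          simp at hd
        refine ⟨i, Finsupp.ext fun j => ?_⟩
        have h1 : ∑ x, d x = 1 := by rwa [Finsupp.degree_eq_sum] at hd
        by_cases hj : i = j
        · subst hj
          have := Finset.single_le_sum (f := fun x => d x) (fun x _ => Nat.zero_le _) (Finset.mem_univ i)
          rw [Finsupp.single_eq_same]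
          omega
        · have := Finset.sum_le_sum_of_subset (f := fun x => d x) (Finset.subset_univ {i, j})
          rw [Finset.sum_pair hj] at this
          rw [Finsupp.single_eq_of_ne (Ne.symm hj)]
          omega
      rw [Finset.sum_eq_single i (fun j _ hj => if_neg (fun e => hj (Finsupp.single_left_injective one_ne_zero e)))
        (fun h' => absurd (Finset.mem_univ i) h'), if_pos rfl]
    · rw [(hF l).coeff_eq_zero hd]
      exact (Finset.sum_eq_zero fun i _ => if_neg (fun e => hd (by rw [← e]; simp))).symm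
  conv_lhs => rw [h]
  simp only [map_sum, map_mul, aeval_C, aeval_X, Matrix.vecMul, dotProduct, Matrix.map_apply, Matrix.of_apply]
  exact Finset.sum_congr rfl fun i _ => mul_comm _ _

theorem no_root_eval {K : Type u} [Field K] [IsAlgClosed K] (p : Polynomial K) (h : ∀ t, p.eval t ≠ 0) :
    ∃ c, c ≠ 0 ∧ ∀ t, p.eval t = c := by
  have hd : p.degree ≤ 0 := by
    by_contra hd
    obtain ⟨t, ht⟩ := IsAlgClosed.exists_root p (ne_of_gt (not_le.1 hd))
    exact h t ht
  rw [Polynomial.eq_C_of_degree_le_zero hd] at h ⊢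
  exact ⟨p.coeff 0, by simpa using h 0, fun t => by simp⟩

theorem eq_one_of_pow_eq {K : Type u} [Field K] [Infinite K] {e : ℕ} (h : ∀ t : K, t ≠ 0 → t ^ e = t) : e = 1 := by
  have hz : (Polynomial.X ^ e - Polynomial.X : Polynomial K) = 0 := by
    refine Polynomial.eq_zero_of_infinite_isRoot _ (Set.Infinite.mono ?_ (Set.finite_singleton (0 : K)).infinite_compl)
    intro t ht
    show Polynomial.eval t (Polynomial.X ^ e - Polynomial.X) = 0
    rw [Polynomial.eval_sub, Polynomial.eval_pow, Polynomial.eval_X, h t ht, sub_self]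
  have := congrArg Polynomial.natDegree (sub_eq_zero.1 hz)
  simpa using this

end Groth.Agent.PglPts
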