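import Groth.Agent.PglPts.Line
import Groth.Agent.PglPts.Poly

/-! Natural automorphisms of the functor of rank one left ideals are right multiplications. -/

set_option autoImplicit false
set_option maxSynthPendingDepth 3

universe u

noncomputable section

open scoped TensorProduct Matrix
open MvPolynomial

namespace Groth.Agent.PglPts

variable {k : Type u} [Field k] {A : Type u} [Ring A] [Algebra k A] {c : ℕ}

/-- Natural families of maps of left ideal sets. -/
def IsNat (Φ : ∀ (R : Type u) [CommRing R] [Algebra k R], BrSev.SBSet k A c R → BrSev.SBSet k A c R) : Prop :=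
  ∀ (R S : Type u) [CommRing R] [CommRing S] [Algebra k R] [Algebra k S] (φ : R →ₐ[k] S)
    (N : BrSev.SBSet k A c R), Φ S (mapSB φ N) = mapSB φ (Φ R N)

variable [Module.Finite k A] {K : Type u} [Field K] [Algebra k K] {n : ℕ}
  (e₀ : K ⊗[k] A ≃ₐ[K] Matrix (Fin n) (Fin n) K) (hA : Module.finrank k A = n * n)

theorem ptLine_congr {R : Type u} [CommRing R] [Algebra k R] [Algebra K R] [IsScalarTower k K R]
    {p q : Fin n → R} (h : p = q) (hp : IsUni p) (hq : IsUni q) :
    ptLine e₀ hA p hp = ptLine e₀ hA q hq := by subst h; rfl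

omit [Algebra k K] [Module.Finite k A] in
theorem isUni_of_field {L : Type u} [Field L] {p : Fin n → L} (h : p ≠ 0) : IsUni p := by
  obtain ⟨i, hi⟩ := Function.ne_iff.1 h
  exact isUni_of_isUnit (isUnit_iff_ne_zero.2 hi)

omit [Algebra k K] [Module.Finite k A] in
theorem exists_isUnit {R : Type u} [CommRing R] [IsLocalRing R] {p : Fin n → R} (h : IsUni p) :
    ∃ i, IsUnit (p i) := by
  by_contra hne
  push Not at hne
  obtain ⟨c, hc⟩ := h
  have h1 : (p ⬝ᵥ c) ∈ IsLocalRing.maximalIdeal R :=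
    Ideal.sum_mem _ fun i _ => Ideal.mul_mem_right _ _ ((IsLocalRing.mem_maximalIdeal _).2 (hne i))
  rw [hc] at h1
  exact (IsLocalRing.maximalIdeal.isMaximal R).ne_top ((Ideal.eq_top_iff_one _).2 h1)

omit [Algebra k K] [Module.Finite k A] in
theorem IsUni.ne_zero {R : Type u} [CommRing R] [Nontrivial R] {p : Fin n → R} (h : IsUni p) : p ≠ 0 := by
  rintro rfl
  obtain ⟨c, hc⟩ := h
  simp at hc

/-- A natural map is given by a primitive tuple of polynomials. -/
theorem exists_tuple (hn : 0 < n)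
    (Φ : ∀ (R : Type u) [CommRing R] [Algebra k R], BrSev.SBSet k A (n * n - n) R → BrSev.SBSet k A (n * n - n) R)
    (hΦ : IsNat Φ) :
    ∃ F : Fin n → MvPolynomial (Fin n) K, Prim F ∧
      ∀ (R : Type u) [CommRing R] [Algebra k R] [Algebra K R] [IsScalarTower k K R]
        (p : Fin n → R) (hp : IsUni p) (i : Fin n), IsUnit (p i) →
        ∃ hq : IsUni fun l => aeval p (F l), Φ R (ptLine e₀ hA p hp) = ptLine e₀ hA _ hq := by
  classical
  let P := MvPolynomial (Fin n) K
  let L := FractionRing P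
  haveI : IsScalarTower k K L := IsScalarTower.of_algebraMap_eq fun r => by
    rw [IsScalarTower.algebraMap_apply k P L, IsScalarTower.algebraMap_apply k K P,
      ← IsScalarTower.algebraMap_apply K P L]
  let T : Fin n → L := fun l => algebraMap P L (X l)
  have hT : IsUni T := isUni_of_isUnit (i := ⟨0, hn⟩) (isUnit_iff_ne_zero.2
    fun h => X_ne_zero (R := K) (⟨0, hn⟩ : Fin n) (IsFractionRing.injective P L (h.trans (map_zero _).symm)))
  obtain ⟨q, hq, hqΦ⟩ := exists_ptLine e₀ hA hn (Φ L (ptLine e₀ hA T hT))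
  obtain ⟨F, lam, hF, hlam, hlamq⟩ := exists_prim (R := P) q hq.ne_zero
  refine ⟨F, hF, fun R _ _ _ _ p hp i hpi => ?_⟩
  let Ri := Localization.Away (X i : P)
  haveI : IsScalarTower k K Ri := IsScalarTower.of_algebraMap_eq fun r => by
    rw [IsScalarTower.algebraMap_apply k P Ri, IsScalarTower.algebraMap_apply k K P,
      ← IsScalarTower.algebraMap_apply K P Ri]
  have hle : Submonoid.powers (X i : P) ≤ nonZeroDivisors P :=
    powers_le_nonZeroDivisors_of_noZeroDivisors (X_ne_zero i)
  haveI : IsDomain Ri := IsLocalization.isDomain_localization hle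
  let φ : Ri →ₐ[K] L := IsLocalization.liftAlgHom (M := Submonoid.powers (X i : P))
    (f := IsScalarTower.toAlgHom K P L) fun y =>
      isUnit_iff_ne_zero.2 fun h => nonZeroDivisors.ne_zero (hle y.2)
        (IsFractionRing.injective P L (h.trans (map_zero _).symm))
  have hφa : ∀ a : P, φ (algebraMap P Ri a) = algebraMap P L a := fun a => IsLocalization.lift_eq _ a
  have hφi : Function.Injective φ := (IsLocalization.lift_injective_iff _).2 fun a b => by
    refine ⟨fun h => congrArg _ (IsLocalization.injective Ri hle h), fun h => congrArg _ (IsFractionRing.injective P L h)⟩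
  let U : Fin n → Ri := fun l => algebraMap P Ri (X l)
  have hUi : IsUnit (U i) := IsLocalization.map_units Ri (⟨X i, Submonoid.mem_powers _⟩ : Submonoid.powers (X i : P))
  have h1 : mapSB (φ.restrictScalars k) (Φ Ri (ptLine e₀ hA U (isUni_of_isUnit hUi))) = ptLine e₀ hA q hq := by
    rw [← hΦ Ri L, mapSB_ptLine e₀ hA φ _ ((isUni_of_isUnit hUi).map φ), ← hqΦ]
    exact congrArg (Φ L) (ptLine_congr e₀ hA (funext fun l => hφa _) _ _)
  have hF0 : (fun l => algebraMap P Ri (F l)) ≠ 0 := fun h => hF.ne_zero (funext fun l =>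
    IsLocalization.injective Ri hle ((congrFun h l).trans (map_zero _).symm))
  have hsat : ∀ v : Fin n → Ri, (∃ l : L, l • q = fun j => φ (v j)) ↔
      ∃ a : Ri, a • (fun l => algebraMap P Ri (F l)) = v := by
    refine fun v => ⟨fun ⟨l, hl⟩ => ?_, fun ⟨a, ha⟩ => ⟨φ a / lam, ?_⟩⟩
    · obtain ⟨b, hb⟩ := IsLocalization.exist_integer_multiples (Submonoid.powers (X i : P))
        (Finset.univ : Finset (Fin n)) v
      choose w hw using fun j => hb j (Finset.mem_univ j)
      have hwL : ∀ j, algebraMap P L (w j) = algebraMap P L b * l * lam * algebraMap P L (F j) := fun j => by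
        rw [← hφa (w j), hw j, Algebra.smul_def, map_mul, hφa, ← congrFun hl j]
        simp only [Pi.smul_apply, smul_eq_mul, hlamq]
        ring
      obtain ⟨a, ha⟩ := hF.exists_smul_of_cross (v := w) fun j m => IsFractionRing.injective P L (by
        rw [map_mul, map_mul, hwL, hwL]; ring)
      have hbu : IsUnit (algebraMap P Ri b) := IsLocalization.map_units Ri b
      refine ⟨↑hbu.unit⁻¹ * algebraMap P Ri a, funext fun j => ?_⟩
      have h := congrArg (algebraMap P Ri) (congrFun ha j)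
      rw [Pi.smul_apply, smul_eq_mul, map_mul, hw j, Algebra.smul_def] at h
      rw [Pi.smul_apply, smul_eq_mul, mul_assoc, h, ← mul_assoc, IsUnit.val_inv_mul, one_mul]
    · funext j
      rw [← ha]
      simp only [Pi.smul_apply, smul_eq_mul, map_mul, hφa, hlamq]
      rw [← mul_assoc, div_mul_cancel₀ _ hlam]
  obtain ⟨hFu, hFΦ⟩ := eq_ptLine_of_sat e₀ hA hn φ hφi _ h1 _ hF0 hsat
  let ψ : Ri →ₐ[K] R := IsLocalization.liftAlgHom (M := Submonoid.powers (X i : P)) (f := aeval p) fun y => by
    obtain ⟨m, hm⟩ := Submonoid.mem_powers_iff _ _ |>.1 y.2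
    rw [← hm, map_pow, aeval_X]
    exact hpi.pow m
  have hψa : ∀ a : P, ψ (algebraMap P Ri a) = aeval p a := fun a => IsLocalization.lift_eq _ a
  have hq' : (fun l => ψ (algebraMap P Ri (F l))) = fun l => aeval p (F l) := funext fun l => hψa _
  refine ⟨hq' ▸ hFu.map ψ, ?_⟩
  have h2 := hΦ Ri R (ψ.restrictScalars k) (ptLine e₀ hA U (isUni_of_isUnit hUi))
  rw [hFΦ, mapSB_ptLine e₀ hA ψ _ ((isUni_of_isUnit hUi).map ψ), mapSB_ptLine e₀ hA ψ _ (hFu.map ψ)] at h2
  refine (congrArg (Φ R) (ptLine_congr e₀ hA (funext fun l => ?_) _ _)).trans (h2.trans (ptLine_congr e₀ hA hq' _ _))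
  rw [hψa, aeval_X]

theorem cross_of_ptLine_eq {R : Type u} [CommRing R] [Algebra k R] [Algebra K R] [IsScalarTower k K R]
    {p q : Fin n → R} {hp : IsUni p} {hq : IsUni q}
    (h : ptLine e₀ hA q hq = ptLine e₀ hA p hp) (l m : Fin n) : q l * p m = q m * p l := by
  obtain ⟨a, rfl⟩ := exists_smul_of_ptLine_eq e₀ hA h
  simp only [Pi.smul_apply, smul_eq_mul]
  ring

theorem exists_homogeneous (hn : 0 < n)
    (Φ : ∀ (R : Type u) [CommRing R] [Algebra k R], BrSev.SBSet k A (n * n - n) R → BrSev.SBSet k A (n * n - n) R)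
    (hΦ : IsNat Φ) :
    ∃ (F : Fin n → MvPolynomial (Fin n) K) (d : ℕ), Prim F ∧ (∀ l, (F l).IsHomogeneous d) ∧
      ∀ (R : Type u) [CommRing R] [Algebra k R] [Algebra K R] [IsScalarTower k K R]
        (p : Fin n → R) (hp : IsUni p) (i : Fin n), IsUnit (p i) →
        ∃ hq : IsUni fun l => aeval p (F l), Φ R (ptLine e₀ hA p hp) = ptLine e₀ hA _ hq := by
  obtain ⟨F, hF, key⟩ := exists_tuple e₀ hA hn Φ hΦ
  let P := MvPolynomial (Fin n) K
  let L := FractionRing (Polynomial P)
  haveI : IsScalarTower k K L := IsScalarTower.of_algebraMap_eq fun r => by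
    rw [IsScalarTower.algebraMap_apply k (Polynomial P) L, IsScalarTower.algebraMap_apply k K (Polynomial P),
      ← IsScalarTower.algebraMap_apply K (Polynomial P) L]
  let j := IsScalarTower.toAlgHom K (Polynomial P) L
  have hj : Function.Injective j := IsFractionRing.injective (Polynomial P) L
  let T : Fin n → L := fun l => j (Polynomial.C (X l))
  let T' : Fin n → L := fun l => j (Polynomial.X * Polynomial.C (X l))
  have hT0 : IsUnit (T ⟨0, hn⟩) := isUnit_iff_ne_zero.2 fun h =>
    X_ne_zero (R := K) (⟨0, hn⟩ : Fin n) (Polynomial.C_eq_zero.1 (hj (h.trans (map_zero j).symm)))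
  have hT0' : IsUnit (T' ⟨0, hn⟩) := by
    rw [show T' ⟨0, hn⟩ = j Polynomial.X * T ⟨0, hn⟩ from map_mul j _ _]
    exact (isUnit_iff_ne_zero.2 fun h => Polynomial.X_ne_zero (R := P) (hj (h.trans (map_zero j).symm))).mul hT0
  have h0 : ptLine e₀ hA T' (isUni_of_isUnit hT0') = ptLine e₀ hA T (isUni_of_isUnit hT0) :=
    ptLine_eq_of_smul e₀ hA (a := j Polynomial.X) (funext fun l => map_mul j _ _)
  obtain ⟨_, h1⟩ := key L T (isUni_of_isUnit hT0) _ hT0
  obtain ⟨_, h1'⟩ := key L T' (isUni_of_isUnit hT0') _ hT0'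
  rw [h0, h1] at h1'
  obtain ⟨d, hd⟩ := homogeneous_of_prim hF fun l m => hj (by
    have h2 := cross_of_ptLine_eq e₀ hA h1'.symm l m
    have e1 : ∀ Q : P, aeval T' Q = j (aeval (fun i => Polynomial.X * Polynomial.C (X i : P)) Q) := fun Q => by
      rw [← AlgHom.comp_apply, comp_aeval]
    have e2 : ∀ Q : P, aeval T Q = j (Polynomial.C Q) := fun Q => by
      rw [show aeval T Q = j (aeval (fun i => Polynomial.C (X i : P)) Q) by rw [← AlgHom.comp_apply, comp_aeval]]
      congr 1
      have := aeval_algebraMap_apply (B := Polynomial P) (X : Fin n → P) Q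
      rwa [aeval_X_left_apply] at this
    rw [e1, e1, e2, e2] at h2
    rwa [map_mul, map_mul])
  exact ⟨F, d, hF, hd, key⟩

theorem prim_X (hn : 2 ≤ n) : Prim (X : Fin n → MvPolynomial (Fin n) K) := by
  refine prim_of_forall_dvd fun d hd => ?_
  let a : Fin n := ⟨0, by omega⟩
  let b : Fin n := ⟨1, by omega⟩
  obtain ⟨x, hx⟩ := hd a
  by_contra hu
  have hp : Prime (X a : MvPolynomial (Fin n) K) := MvPolynomial.X_prime
  have hxu : IsUnit x := (hp.irreducible.isUnit_or_isUnit hx).resolve_left hu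
  have h2 : (X a : MvPolynomial (Fin n) K) ∣ X b := ((hxu.mul_right_dvd).2 dvd_rfl |> fun h : d * x ∣ d => hx ▸ h).trans (hd b)
  rw [X_dvd_X] at h2
  · simp [a, b] at h2

/-- The natural bijection on points is linear. -/
theorem exists_linear (hn : 0 < n)
    (Φ Ψ : ∀ (R : Type u) [CommRing R] [Algebra k R], BrSev.SBSet k A (n * n - n) R → BrSev.SBSet k A (n * n - n) R)
    (hΦ : IsNat Φ) (hΨ : IsNat Ψ) (h : ∀ (R : Type u) [CommRing R] [Algebra k R] N, Ψ R (Φ R N) = N) :
    ∃ g : GL (Fin n) K, ∀ (R : Type u) [CommRing R] [Algebra k R] [Algebra K R] [IsScalarTower k K R]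
      (p : Fin n → R) (hp : IsUni p) (i : Fin n), IsUnit (p i) →
      ∃ hq : IsUni (p ᵥ* (g : Matrix (Fin n) (Fin n) K).map (algebraMap K R)),
        Φ R (ptLine e₀ hA p hp) = ptLine e₀ hA _ hq := by
  classical
  obtain ⟨F, d, hF, hFd, keyF⟩ := exists_homogeneous e₀ hA hn Φ hΦ
  rcases Nat.lt_or_ge n 2 with hn2 | hn2
  · obtain rfl : n = 1 := by omega
    refine ⟨1, fun R _ _ _ _ p hp i hpi => ?_⟩
    obtain ⟨hq, hΦq⟩ := keyF R p hp i hpi
    have e1 : p ᵥ* ((1 : GL (Fin 1) K) : Matrix (Fin 1) (Fin 1) K).map (algebraMap K R) = p := by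
      rw [Units.val_one, Matrix.map_one _ (map_zero _) (map_one _), Matrix.vecMul_one]
    refine ⟨by rw [e1]; exact hp, hΦq.trans ?_⟩
    refine ptLine_eq_of_smul e₀ hA (a := aeval p (F i) * ↑hpi.unit⁻¹) (funext fun l => ?_)
    rw [Subsingleton.elim l i, Pi.smul_apply, e1, smul_eq_mul, mul_assoc, IsUnit.val_inv_mul, mul_one]
  obtain ⟨G, e, hG, hGe, keyG⟩ := exists_homogeneous e₀ hA hn Ψ hΨ
  have hGF : ∀ (R : Type u) [CommRing R] [Algebra k R] [Algebra K R] [IsScalarTower k K R] [IsLocalRing R]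
      (p : Fin n → R), IsUni p →
      IsUni (fun l => aeval (fun m => aeval p (F m)) (G l)) ∧
      ∀ l m, aeval (fun m' => aeval p (F m')) (G l) * p m = aeval (fun m' => aeval p (F m')) (G m) * p l := by
    intro R _ _ _ _ _ p hp
    obtain ⟨i, hi⟩ := exists_isUnit hp
    obtain ⟨hq, h1⟩ := keyF R p hp i hi
    obtain ⟨j, hj⟩ := exists_isUnit hq
    obtain ⟨hr, h2⟩ := keyG R _ hq j hj
    rw [← h1, h] at h2
    exact ⟨hr, fun l m => cross_of_ptLine_eq e₀ hA h2.symm l m⟩
  let P := MvPolynomial (Fin n) K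
  let L := FractionRing P
  haveI : IsScalarTower k K L := IsScalarTower.of_algebraMap_eq fun r => by
    rw [IsScalarTower.algebraMap_apply k P L, IsScalarTower.algebraMap_apply k K P,
      ← IsScalarTower.algebraMap_apply K P L]
  have hT : (fun l => algebraMap P L (X l)) ≠ 0 := fun h0 =>
    X_ne_zero (R := K) (⟨0, hn⟩ : Fin n) (IsFractionRing.injective P L ((congrFun h0 _).trans (map_zero _).symm))
  have eF : ∀ (v : Fin n → P) (Q : P), aeval (fun l => algebraMap P L (v l)) Q = algebraMap P L (aeval v Q) :=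
    fun v Q => aeval_algebraMap_apply (B := L) v Q
  have eT : ∀ Q : P, aeval (fun l => algebraMap P L (X l)) Q = algebraMap P L Q := fun Q => by
    rw [eF, aeval_X_left_apply]
  obtain ⟨H, hH⟩ := (prim_X (K := K) hn2).exists_smul_of_cross (v := fun l => aeval F (G l)) fun l m =>
    IsFractionRing.injective P L (by
      have h2 := (hGF L _ (isUni_of_field hT)).2 l m
      simp only [eT] at h2
      rw [eF, eF] at h2
      rwa [map_mul, map_mul])
  let Kb := AlgebraicClosure K
  let a : Fin n := ⟨0, by omega⟩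
  let b : Fin n := ⟨1, by omega⟩
  have hab : a ≠ b := by simp [a, b]
  have hbase : ∀ (x : Fin n → Kb) (l : Fin n),
      aeval x H * x l = aeval (fun m => aeval x (F m)) (G l) := fun x l => by
    have := congrArg (aeval x) (congrFun hH l)
    rw [Pi.smul_apply, smul_eq_mul, map_mul, aeval_X] at this
    rw [this, ← AlgHom.comp_apply, comp_aeval]
  have hnz : ∀ x : Fin n → Kb, x ≠ 0 → aeval x H ≠ 0 := fun x hx h0 =>
    (hGF Kb x (isUni_of_field hx)).1.ne_zero (funext fun l => by rw [← hbase x l, h0, zero_mul]; rfl)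
  have hscale : ∀ (t : Kb) (x : Fin n → Kb) (l : Fin n),
      aeval (fun m => t * x m) H * (t * x l) = t ^ (d * e) * (aeval x H * x l) := fun t x l => by
    rw [hbase x l, hbase (fun m => t * x m) l, show (fun m => aeval (fun m' => t * x m') (F m)) =
      fun m => t ^ d * aeval x (F m) from funext fun m => aeval_scale (hFd m) t x, aeval_scale (hGe l),
      ← pow_mul]
  let vec : Kb → Kb → Fin n → Kb := fun s t m => if m = a then s else if m = b then t else 0
  let pv : Fin n → Polynomial Kb := fun m => if m = a then Polynomial.X else if m = b then 1 else 0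
  let qv : Fin n → Polynomial Kb := fun m => if m = a then 1 else if m = b then Polynomial.X else 0
  have hev : ∀ (t : Kb) (w : Fin n → Polynomial Kb), (aeval w H).eval t = aeval (fun m => (w m).eval t) H :=
    fun t w => by
      have := comp_aeval_apply (R := K) w ((Polynomial.aeval (R := Kb) t).restrictScalars K) H
      simpa [Polynomial.coe_aeval_eq_eval] using this
  have hp : ∀ t : Kb, (aeval pv H).eval t = aeval (vec t 1) H := fun t => by
    rw [hev]; congr 2; funext m; simp only [pv, vec]; split_ifs <;> simp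
  have hq : ∀ t : Kb, (aeval qv H).eval t = aeval (vec 1 t) H := fun t => by
    rw [hev]; congr 2; funext m; simp only [qv, vec]; split_ifs <;> simp
  obtain ⟨c₁, hc₁, hp'⟩ := no_root_eval (aeval pv H) fun t => by
    rw [hp]; exact hnz _ fun h0 => by simpa [vec, hab.symm] using congrFun h0 b
  obtain ⟨c₂, hc₂, hq'⟩ := no_root_eval (aeval qv H) fun t => by
    rw [hq]; exact hnz _ fun h0 => by simpa [vec] using congrFun h0 a
  have hdiag : ∀ t : Kb, t ≠ 0 → c₁ * t = t ^ (d * e) * c₂ := fun t ht => by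
    have h1 := hscale t (vec 1 t⁻¹) a
    have e1 : (fun m => t * vec 1 t⁻¹ m) = vec t 1 := funext fun m => by
      simp only [vec]; split_ifs <;> simp [ht]
    rw [e1, ← hp, ← hq, hp', hq'] at h1
    simpa [vec] using h1
  have hde : d * e = 1 := eq_one_of_pow_eq (K := Kb) fun t ht => by
    have h1 := hdiag 1 one_ne_zero
    rw [mul_one, one_pow, one_mul] at h1
    have h2 := hdiag t ht
    rw [h1] at h2
    exact mul_right_cancel₀ hc₂ (h2.symm.trans (mul_comm _ _))
  obtain ⟨hd1, he1⟩ := mul_eq_one.1 hde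
  subst hd1 he1
  obtain ⟨g, hg⟩ := exists_matrix hFd
  obtain ⟨g', hg'⟩ := exists_matrix hGe
  have hinj : Function.Injective fun v : Fin n → K => v ᵥ* g := by
    intro v w hvw
    by_contra hne
    have hs : v - w ≠ 0 := sub_ne_zero.2 hne
    obtain ⟨hq, -⟩ := keyF K (v - w) (isUni_of_field hs) _
      (isUnit_iff_ne_zero.2 (Function.ne_iff.1 hs).choose_spec)
    refine hq.ne_zero ?_
    rw [hg K (v - w), show g.map (algebraMap K K) = g by ext; simp, Matrix.sub_vecMul]
    exact sub_eq_zero.2 hvw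
  refine ⟨(Matrix.vecMul_injective_iff_isUnit.1 hinj).unit, fun R _ _ _ _ p hp i hpi => ?_⟩
  obtain ⟨hq, hΦq⟩ := keyF R p hp i hpi
  rw [IsUnit.unit_spec]
  exact ⟨hg R p ▸ hq, hΦq.trans (ptLine_congr e₀ hA (hg R p) _ _)⟩

end Groth.Agent.PglPts
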